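import Cfsg.Agent.H553.RV.LinE

/-!
# TEAM RV, R2 linear/unitary: `t`-elements lie in `B_t` (helper553)
-/

set_option autoImplicit false
set_option linter.unusedSectionVars false

namespace Cfsg.Agent.H553.RV

open Module Cfsg.Agent.H167.OP Cfsg.Agent.H170.HL Cfsg.Agent.H556.HallRowAbs Cfsg.Agent.H556.HallLB
  Cfsg.Agent.H556.HallSmallCen

variable {F : Type*} [Field F] {V : Type*} [AddCommGroup V] [Module F V] {Y : Type*} [Group Y]
  {ρ : Representation F Y V} [FiniteDimensional F V] [Finite Y] {e : ℕ → ℕ} {X H : Subgroup Y}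

theorem stab_of_pow {W : Submodule F V} {x : Y} {n k : ℕ} (hx : x ^ n = 1) (hcop : Nat.Coprime k n)
    (h : St ρ W (x ^ k)) : St ρ W x := by
  by_cases hn : n = 1
  · rw [hn, pow_one] at hx
    rw [hx]
    intro w hw
    rw [one_ap]; exact hw
  by_cases hn0 : n = 0
  · rw [hn0, Nat.coprime_zero_right] at hcop
    rwa [hcop, pow_one] at h
  obtain ⟨m, -, hm⟩ := Nat.exists_mul_mod_eq_one_of_coprime hcop (by omega)
  have h1 : x ^ (k * m) = x ^ 1 := pow_eq_of_modEq hx (by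
    show k * m % n = 1 % n
    rw [hm, Nat.mod_eq_of_lt (by omega)])
  have h2 := h.pow m
  rw [← pow_mul, h1, pow_one] at h2
  exact h2

/-- the translates of an atom under a `t`-element are distinct -/
theorem distinct_translates {W : Submodule F V} {x : Y} {t k : ℕ} (ht : t.Prime) (hx : x ^ t ^ k = 1)
    (hst : ¬ St ρ W x) {i j : ℕ} (hi : i < t) (hj : j < t) (hij : i ≠ j) : ¬ St ρ W ((x ^ j)⁻¹ * x ^ i) := by
  have key : ∀ d : ℕ, 0 < d → d < t → ¬ St ρ W (x ^ d) := by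
    intro d hd hdt h
    exact hst (stab_of_pow hx (Nat.Coprime.pow_right k (Nat.coprime_of_lt_prime hd.ne' hdt ht).symm) h)
  intro h
  rcases Nat.lt_or_gt_of_ne hij with h1 | h1
  · apply key (j - i) (by omega) (by omega)
    have h2 : (x ^ j)⁻¹ * x ^ i = (x ^ (j - i))⁻¹ := by
      rw [inv_mul_eq_iff_eq_mul, eq_mul_inv_iff_mul_eq, ← pow_add]
      congr 1; omega
    rw [h2] at h
    exact h.of_inv
  · apply key (i - j) (by omega) (by omega)
    have h2 : (x ^ j)⁻¹ * x ^ i = x ^ (i - j) := by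
      rw [inv_mul_eq_iff_eq_mul, ← pow_add]
      congr 1; omega
    rwa [h2] at h

/-- `t`-elements stabilise the atoms -/
theorem Cx.stab_t (C : Cx ρ e X H) {r t : ℕ} (hr : r.Prime) (hrH : r ∣ Nat.card H) (ht : t.Prime)
    (htH : t ∣ Nat.card H) (hrt : r < t) {x a : Y} (hxH : x ∈ H) (hx : ∃ k : ℕ, x ^ t ^ k = 1)
    (ha : IsZ ρ e t a) (haH : a ∈ H) : St ρ (Rg ρ a) x := by
  by_contra hst
  obtain ⟨k, hk⟩ := hx
  have hgen := C.gen hr hrH ht htH hrt
  have htF := C.ne ht htH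
  have hto := C.odd ht htH
  obtain ⟨m, f, hf⟩ := C.frame hr hrH
  obtain ⟨m', f', hf'⟩ := C.frame ht htH
  -- the translates
  let b : ℕ → Y := fun i => x ^ i * a * (x ^ i)⁻¹
  have hbZ : ∀ i, IsZ ρ e t (b i) := fun i => ha.conj _
  have hbH : ∀ i, b i ∈ H := fun i => H.mul_mem (H.mul_mem (H.pow_mem hxH i) haH) (H.inv_mem (H.pow_mem hxH i))
  have hfix : ∀ i j, i < t → j < t → i ≠ j → ∀ w ∈ Rg ρ (b i), ρ (b j) w = w := by
    intro i j hi hj hij w hw
    rw [Rg_conj] at hw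
    obtain ⟨w', hw', rfl⟩ := hw
    exact two C.D C.hH ht hto htF hgen ha haH (H.pow_mem hxH i) (H.pow_mem hxH j)
      (distinct_translates ht hk hst hi hj hij) hw'
  have hpair : ∀ i, (∀ j, f j * b i = b i * f j) ∨ (e t = r ∧ e r = r - 1) := by
    intro i
    by_contra hcon
    push Not at hcon
    obtain ⟨⟨j, hj⟩, h2⟩ := hcon
    rcases pair C.D C.hH hr (C.odd hr hrH) (C.ne hr hrH) ht hto htF hrt.ne hgen (C.dm r t hr ht hrH htH) hf'
      (hbZ i) (hbH i) (hf.isZ j) (hf.mem j) with h | h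
    · exact hj h
    · exact h2 h.1 h.2
  by_cases hγ : e t = r ∧ e r = r - 1
  · -- case `γ`
    have hex : ∀ i : Fin t, ∃ w ∈ Rg ρ (b i), w ≠ 0 ∧ ∀ j, ρ (f j) w = w := fun i =>
      C.gamma_fix hr hrH ht htH hrt hγ.1 hγ.2 hf (hbZ i) (hbH i)
    choose w hw hw0 hwf using hex
    have hli : LinearIndependent F w := by
      rw [Fintype.linearIndependent_iff]
      intro g hg i
      have h6 := indep_sum (ρ := ρ) Finset.univ (fun i : Fin t => b i) (fun i => g i • w i) htF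
        (fun i _ => (hbZ i).1) (fun i _ => Submodule.smul_mem _ _ (hw i)) (fun i _ k _ hik => by
          rw [map_smul, hfix i k i.2 k.2 (fun h => hik (Fin.ext h)) _ (hw i)]) hg i (Finset.mem_univ i)
      exact (smul_eq_zero.mp h6).resolve_right (hw0 i)
    have h1 := hf.max (Submodule.span F (Set.range w)) (by
      intro j v hv
      induction hv using Submodule.span_induction with
      | mem v hv => obtain ⟨i, rfl⟩ := hv; exact hwf i j
      | zero => rw [map_zero]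
      | add u v _ _ hu hv => rw [map_add, hu, hv]
      | smul c v _ hv => rw [map_smul, hv])
    rw [finrank_span_eq_card hli, Fintype.card_fin, hγ.2] at h1
    omega
  · -- case `α`
    have hcomm : ∀ z ∈ H, IsZ ρ e r z → ∀ c ∈ H, IsZ ρ e t c → z * c = c * z := by
      intro z hz hzZ c hc hcZ
      rcases pair C.D C.hH hr (C.odd hr hrH) (C.ne hr hrH) ht hto htF hrt.ne hgen (C.dm r t hr ht hrH htH) hf'
        hcZ hc hzZ hz with h | h
      · exact h
      · exact absurd h hγ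
    have hm := C.pos hr hrH hf
    have hm' := C.pos ht htH hf'
    have he1 : e t ≤ e r := e_le_of_comm C.D (C.ne hr hrH) ht hto htF hf (hf'.isZ ⟨0, hm'⟩) fun i =>
      hcomm _ (hf.mem i) (hf.isZ i) _ (hf'.mem _) (hf'.isZ _)
    have he2 : e r ≤ e t := e_le_of_comm C.D htF hr (C.odd hr hrH) (C.ne hr hrH) hf' (hf.isZ ⟨0, hm⟩) fun i =>
      (hcomm _ (hf.mem _) (hf.isZ _) _ (hf'.mem i) (hf'.isZ i)).symm
    have he : e r = e t := le_antisymm he2 he1
    have hA : ∀ c ∈ H, IsZ ρ e t c → ∃ i, Rg ρ c = Rg ρ (f i) := fun c hc hcZ =>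
      C.same_atom hr hrH ht htH he hf hcZ fun i => hcomm _ (hf.mem i) (hf.isZ i) _ hc hcZ
    have hB : ∀ z ∈ H, IsZ ρ e r z → ∃ i, Rg ρ z = Rg ρ (f' i) := fun z hz hzZ =>
      C.same_atom ht htH hr hrH he.symm hf' hzZ fun i => (hcomm _ hz hzZ _ (hf'.mem i) (hf'.isZ i)).symm
    have hperm := C.perm_hall hr hrH hf (by
      intro h hh i
      have h1 : h * f i * h⁻¹ ∈ H := H.mul_mem (H.mul_mem hh (hf.mem i)) (H.inv_mem hh)
      obtain ⟨l, hl⟩ := hB _ h1 ((hf.isZ i).conj h)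
      obtain ⟨i', hi'⟩ := hA _ (hf'.mem l) (hf'.isZ l)
      exact ⟨i', by rw [← Rg_conj, hl, hi']⟩)
    -- at least `t` supports
    have htm : t ≤ m := by
      choose g hg using fun i : Fin t => hA (b i) (hbH i) (hbZ i)
      have hgi : Function.Injective g := by
        intro i j hij
        by_contra hne
        have h1 : Rg ρ (b i) = Rg ρ (b j) := by rw [hg, hg, hij]
        have h2 : Rg ρ (b j) = ⊥ := by
          rw [eq_bot_iff]
          intro w hw
          rw [Submodule.mem_bot]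
          refine eq_zero_of_fix htF (hbZ j).1 hw ?_
          rw [← h1] at hw
          exact hfix i j i.2 j.2 (fun h => hne (Fin.ext h)) w hw
        have h3 : finrank F (Rg ρ (b j)) = 0 := by rw [h2, finrank_bot]
        rw [finrank_Rg, (hbZ j).2] at h3
        have := C.D.row.epos t ht htF
        omega
      have h1 := Fintype.card_le_of_injective g hgi
      rwa [Fintype.card_fin, Fintype.card_fin] at h1
    have h2H : ¬ (2 : ℕ) ∣ Nat.card H := fun h => (C.hH.ok 2 Nat.prime_two h).1 rfl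
    have ht2 := ht.two_le
    have hr2 := hr.two_le
    rcases (Cfsg.Agent.S2536.result m {p : ℕ | p ∣ Nat.card H}
      ⟨r, t, hr, ht, hrt.ne, hrH, htH, by omega, htm⟩ ⟨2, Nat.prime_two, by omega, h2H⟩).mp hperm with h | h
    · exact h2H ((h.2 2 Nat.prime_two (by omega)).mpr (by omega))
    · exact h2H ((h.2 2 Nat.prime_two (by omega)).mpr (Or.inl rfl))

/-- an automorphism of `t`-power order of a group of order `t` -/
theorem comm_of_conj_pow {t : ℕ} (ht : t.Prime) {x a : Y} (hx : ∃ k : ℕ, x ^ t ^ k = 1) (ha : a ^ t = 1) {j : ℕ}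
    (h : x * a * x⁻¹ = a ^ j) : x * a = a * x := by
  have := Fact.mk ht
  by_cases ha1 : a = 1
  · rw [ha1, mul_one, one_mul]
  have ho : orderOf a = t := orderOf_eq_prime ha ha1
  obtain ⟨k, hk⟩ := hx
  have h1 : ∀ n : ℕ, x ^ n * a * (x ^ n)⁻¹ = a ^ j ^ n := by
    intro n
    induction n with
    | zero => simp
    | succ n ih =>
      have h2 : x ^ (n + 1) * a * (x ^ (n + 1))⁻¹ = x * (x ^ n * a * (x ^ n)⁻¹) * x⁻¹ := by
        rw [pow_succ']; group
      rw [h2, ih, ← conj_pow, h, ← pow_mul, pow_succ']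
  have h2 := h1 (t ^ k)
  rw [hk, one_mul, inv_one, mul_one] at h2
  have h3 : a ^ 1 = a ^ j ^ t ^ k := by rw [pow_one]; exact h2
  rw [pow_inj_mod, ho] at h3
  have h4 : ((j : ZMod t)) ^ t ^ k = 1 := by
    have : (((j ^ t ^ k : ℕ)) : ZMod t) = ((1 : ℕ) : ZMod t) := by
      rw [ZMod.natCast_eq_natCast_iff']
      exact h3.symm
    push_cast at this
    exact this
  have h5 : (j : ZMod t) = 1 := by
    have h6 : ∀ n : ℕ, ((j : ZMod t)) ^ t ^ n = (j : ZMod t) := by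
      intro n
      induction n with
      | zero => simp
      | succ n ih => rw [pow_succ, pow_mul, ih, ZMod.pow_card]
    rw [← h6 k, h4]
  have h6 : a ^ j = a ^ 1 := by
    rw [pow_inj_mod, ho]
    have : ((j : ℕ) : ZMod t) = ((1 : ℕ) : ZMod t) := by push_cast; exact h5
    rw [ZMod.natCast_eq_natCast_iff'] at this
    exact this
  rw [h6, pow_one] at h
  exact mul_inv_eq_iff_eq_mul.mp h

/-- `t`-elements centralise `Z_t(H)` -/
theorem Cx.comm_t (C : Cx ρ e X H) {r t : ℕ} (hr : r.Prime) (hrH : r ∣ Nat.card H) (ht : t.Prime)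
    (htH : t ∣ Nat.card H) (hrt : r < t) {x a : Y} (hxH : x ∈ H) (hx : ∃ k : ℕ, x ^ t ^ k = 1)
    (ha : IsZ ρ e t a) (haH : a ∈ H) : x * a = a * x := by
  obtain ⟨j, hj⟩ := norm_atom C.D C.hH ht (C.odd ht htH) (C.ne ht htH) (C.gen hr hrH ht htH hrt) ha haH hxH
    (C.stab_t hr hrH ht htH hrt hxH hx ha haH)
  exact comm_of_conj_pow ht hx ha.1 hj

/-- the restrictions of a Sylow subgroup to the support of a central element lie in it -/
theorem restr_mem (D : LinDat ρ e X) {t : ℕ} (ht : t.Prime) (htF : (t : F) ≠ 0) {P : Subgroup Y} (hP : IsPGroup t P)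
    (hPi : ¬ t ∣ P.index) {a : Y} (ha : a ^ t = 1) (hc : ∀ g ∈ P, g * a = a * g) {x x' : Y} (hx : x ∈ P)
    (h1 : ∀ v ∈ Rg ρ a, ρ x' v = ρ x v) (h2 : ∀ v, ρ a v = v → ρ x' v = v) : x' ∈ P := by
  have := Fact.mk ht
  -- the group of restrictions
  let Θ : Subgroup Y :=
    { carrier := {y | ∃ g ∈ P, (∀ v ∈ Rg ρ a, ρ y v = ρ g v) ∧ ∀ v, ρ a v = v → ρ y v = v}
      mul_mem' := by
        rintro y y' ⟨g, hg, hy1, hy2⟩ ⟨g', hg', hy1', hy2'⟩
        refine ⟨g * g', P.mul_mem hg hg', fun v hv => ?_, fun v hv => ?_⟩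
        · rw [mul_ap, mul_ap, hy1' v hv, hy1 _ (comm_Rg (hc g' hg').symm hv)]
        · rw [mul_ap, hy2' v hv, hy2 v hv]
      one_mem' := ⟨1, P.one_mem, fun v _ => rfl, fun v _ => one_ap ρ v⟩
      inv_mem' := by
        rintro y ⟨g, hg, hy1, hy2⟩
        refine ⟨g⁻¹, P.inv_mem hg, fun v hv => ?_, fun v hv => ?_⟩
        · have h3 : ρ g⁻¹ v ∈ Rg ρ a := comm_Rg (hc g⁻¹ (P.inv_mem hg)).symm hv
          have h4 := hy1 _ h3
          rw [ap_inv] at h4
          conv_lhs => rw [← h4]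
          rw [inv_ap]
        · conv_lhs => rw [← hy2 v hv]
          rw [inv_ap] }
  have hΘp : IsPGroup t Θ := by
    rintro ⟨y, g, hg, hy1, hy2⟩
    obtain ⟨k, hk⟩ := hP ⟨g, hg⟩
    have hk' : g ^ t ^ k = 1 := congrArg Subtype.val hk
    refine ⟨k, Subtype.ext ?_⟩
    show y ^ t ^ k = 1
    apply D.row.inj
    rw [map_one]
    ext v
    obtain ⟨b, hb, c, hcf, rfl⟩ := exists_decomp htF ha v
    have h3 : ∀ n : ℕ, ρ (y ^ n) b = ρ (g ^ n) b ∧ ρ (g ^ n) b ∈ Rg ρ a := by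
      intro n
      induction n with
      | zero => rw [pow_zero, pow_zero]; exact ⟨rfl, by rw [one_ap]; exact hb⟩
      | succ n ih =>
        rw [pow_succ', mul_ap, ih.1, hy1 _ ih.2, pow_succ', mul_ap]
        exact ⟨rfl, comm_Rg (hc g hg).symm ih.2⟩
    have h4 : ∀ n : ℕ, ρ (y ^ n) c = c := by
      intro n
      induction n with
      | zero => rw [pow_zero, one_ap]
      | succ n ih => rw [pow_succ', mul_ap, ih, hy2 c hcf]
    rw [map_add, (h3 _).1, h4, hk', one_ap]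
    rfl
  have hn : P ≤ Subgroup.normalizer (Θ : Set Y) := by
    have key : ∀ h ∈ P, ∀ y ∈ Θ, h * y * h⁻¹ ∈ Θ := by
      rintro h hh y ⟨g, hg, hy1, hy2⟩
      refine ⟨h * g * h⁻¹, P.mul_mem (P.mul_mem hh hg) (P.inv_mem hh), fun v hv => ?_, fun v hv => ?_⟩
      · rw [mul_ap, mul_ap, mul_ap, mul_ap, hy1 _ (comm_Rg (hc h⁻¹ (P.inv_mem hh)).symm hv)]
      · rw [mul_ap, mul_ap, hy2 _ (comm_fix (hc h⁻¹ (P.inv_mem hh)).symm hv), ap_inv]
    intro h hh
    rw [Subgroup.mem_normalizer_iff]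
    intro y
    refine ⟨fun hy => key h hh y hy, fun hy => ?_⟩
    have h3 := key h⁻¹ (P.inv_mem hh) _ hy
    have h4 : h⁻¹ * (h * y * h⁻¹) * h⁻¹⁻¹ = y := by group
    rwa [h4] at h3
  have hsup : IsPGroup t (P ⊔ Θ : Subgroup Y) := hP.to_sup_of_normal_right' hΘp hn
  have hle : P ≤ P ⊔ Θ := le_sup_left
  obtain ⟨n, hn'⟩ := IsPGroup.iff_card.mp hsup
  have h5 : P.relIndex (P ⊔ Θ) ∣ t ^ n := by
    rw [← hn']
    exact Subgroup.relIndex_dvd_card P (P ⊔ Θ)
  have h6 : P.relIndex (P ⊔ Θ) ∣ P.index := ⟨(P ⊔ Θ).index, (Subgroup.relIndex_mul_index hle).symm⟩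
  have h7 : P.relIndex (P ⊔ Θ) = 1 := by
    obtain ⟨l, -, hl⟩ := (Nat.dvd_prime_pow ht).mp h5
    by_contra hne
    have h8 : l ≠ 0 := by
      rintro rfl
      exact hne (by rw [hl, pow_zero])
    exact hPi ((dvd_pow_self t h8).trans (hl ▸ h6))
  have h8 : P ⊔ Θ ≤ P := Subgroup.relIndex_eq_one.mp h7
  exact h8 (Subgroup.mem_sup_right ⟨x, hx, h1, h2⟩)

/-- **the `t`-elements of `H` lie in `B_t`** -/
theorem Cx.mem_Bt (C : Cx ρ e X H) {r t : ℕ} (hr : r.Prime) (hrH : r ∣ Nat.card H) (ht : t.Prime)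
    (htH : t ∣ Nat.card H) (hrt : r < t) {x : Y} (hxH : x ∈ H) (hx : ∃ k : ℕ, x ^ t ^ k = 1) : x ∈ Bt ρ H t := by
  have := Fact.mk ht
  have htF := C.ne ht htH
  have hgen := C.gen hr hrH ht htH hrt
  obtain ⟨m, f, hf⟩ := C.frame ht htH
  -- a Sylow subgroup
  obtain ⟨P, hPH, hPp, hPi, hxP⟩ : ∃ P : Subgroup Y, P ≤ H ∧ IsPGroup t P ∧ ¬ t ∣ P.index ∧ x ∈ P := by
    have hz : IsPGroup t (Subgroup.zpowers (⟨x, hxH⟩ : H)) := by
      obtain ⟨k, hk⟩ := hx
      rintro ⟨_, i, rfl⟩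
      refine ⟨k, Subtype.ext ?_⟩
      show ((⟨x, hxH⟩ : H) ^ i) ^ t ^ k = 1
      rw [← zpow_natCast, ← zpow_mul, mul_comm, zpow_mul, zpow_natCast]
      have h1 : (⟨x, hxH⟩ : H) ^ t ^ k = 1 := Subtype.ext hk
      rw [h1, one_zpow]
    obtain ⟨Q, hQ⟩ := hz.exists_le_sylow
    refine ⟨(Q : Subgroup H).map H.subtype, Subgroup.map_subtype_le _, Q.2.map _, ?_, ?_⟩
    · intro hd
      rw [Subgroup.index_map_subtype] at hd
      rcases (Nat.Prime.dvd_mul ht).mp hd with h | h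
      · exact Q.not_dvd_index h
      · exact C.idx t ht htH h
    · exact ⟨⟨x, hxH⟩, hQ (Subgroup.mem_zpowers _), rfl⟩
  have hPt : ∀ g ∈ P, ∃ k : ℕ, g ^ t ^ k = 1 := by
    intro g hg
    obtain ⟨k, hk⟩ := hPp ⟨g, hg⟩
    exact ⟨k, congrArg Subtype.val hk⟩
  have hPc : ∀ i, ∀ g ∈ P, g * f i = f i * g := fun i g hg =>
    C.comm_t hr hrH ht htH hrt (hPH hg) (hPt g hg) (hf.isZ i) (hf.mem i)
  -- peel off the restrictions
  have key : ∀ n ≤ m, ∃ y ∈ Bt ρ H t, y ∈ P ∧ ∀ i : Fin m, (i : ℕ) < n → ∀ v ∈ Rg ρ (f i), ρ (y⁻¹ * x) v = v := by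
    intro n
    induction n with
    | zero => intro _; exact ⟨1, (Bt ρ H t).one_mem, P.one_mem, fun i hi => absurd hi (Nat.not_lt_zero _)⟩
    | succ n ih =>
      intro hn
      obtain ⟨y, hyB, hyP, hy⟩ := ih (by omega)
      set i₀ : Fin m := ⟨n, by omega⟩ with hi₀
      have hyx : y⁻¹ * x ∈ P := P.mul_mem (P.inv_mem hyP) hxP
      obtain ⟨k, hk⟩ := hPt _ hyx
      obtain ⟨x', h1, h2⟩ := C.D.rc t (f i₀) (y⁻¹ * x) htF (hf.isZ i₀).1 (hPc i₀ _ hyx).symm
      have hx'P : x' ∈ P := restr_mem C.D ht htF hPp hPi (hf.isZ i₀).1 (hPc i₀) hyx h1 h2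
      have hx'S : x' ∈ Sm ρ H t := by
        refine ⟨hPH hx'P, hPt x' hx'P, ?_⟩
        have h3 : Rg ρ x' ≤ Rg ρ (f i₀) := by
          intro w hw
          obtain ⟨v, rfl⟩ := mem_Rg.mp hw
          obtain ⟨b, hb, c, hcf, rfl⟩ := exists_decomp htF (hf.isZ i₀).1 v
          have h4 : ρ x' (b + c) - (b + c) = ρ (y⁻¹ * x) b - b := by
            rw [map_add, h1 b hb, h2 c hcf]; abel
          rw [h4]
          exact Submodule.sub_mem _ (comm_Rg (hPc i₀ _ hyx).symm hb) hb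
        have h4 := Submodule.finrank_mono h3
        rw [finrank_Rg, finrank_Rg, (hf.isZ i₀).2] at h4
        omega
      refine ⟨y * x', (Bt ρ H t).mul_mem hyB (Subgroup.subset_closure hx'S), P.mul_mem hyP hx'P, fun i hi v hv => ?_⟩
      have h3 : (y * x')⁻¹ * x = x'⁻¹ * (y⁻¹ * x) := by group
      rw [h3, mul_ap]
      by_cases hin : (i : ℕ) = n
      · have h4 : i = i₀ := Fin.ext hin
        subst h4
        rw [← h1 v hv, inv_ap]
      · rw [hy i (by omega) v hv]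
        have h4 : ρ x' v = v := by
          apply h2
          obtain ⟨u, rfl⟩ := mem_Rg.mp hv
          refine hf.ind i₀ i ?_ u
          intro h
          apply hin
          rw [← h]
        conv_lhs => rw [← h4]
        rw [inv_ap]
  obtain ⟨y, hyB, hyP, hy⟩ := key m le_rfl
  have hyx : y⁻¹ * x ∈ P := P.mul_mem (P.inv_mem hyP) hxP
  have h1 := hf.max (Rg ρ (y⁻¹ * x)) (by
    intro i w hw
    obtain ⟨v, rfl⟩ := mem_Rg.mp hw
    have h2 := hy i i.2 _ (sub_mem_Rg (f i) v)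
    rw [map_sub] at h2
    rw [map_sub, ← mul_ap, ← hPc i _ hyx, mul_ap]
    have h3 : ρ (y⁻¹ * x) (ρ (f i) v) = (ρ (f i) v - v) + ρ (y⁻¹ * x) v := by
      rw [← h2]; abel
    rw [h3]
    abel)
  have h2 := eq_one_of_small C.D.row ht (C.odd ht htH) htF (hPt _ hyx) h1
  have h3 : x = y := by
    have := congrArg (fun g => y * g) h2
    simpa using this
  rw [h3]
  exact hyB

end Cfsg.Agent.H553.RV
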