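import Cfsg.Agent.H553.RV.E7B

/-!
# TEAM RV, R2: `E₇(q)` has no Hall `{5, 7}`-subgroup, `5 ∣ q² + 1`, `7 ∤ q² - 1` (helper553)
-/

set_option autoImplicit false
set_option linter.unusedSectionVars false

namespace Cfsg.Agent.H553.RV.E7B

open CoxeterSystem Cfsg Cfsg.Lie Cfsg.Lie.ChevalleyDatum
open Cfsg.Agent.ChevalleyStructure Cfsg.Agent.ChevalleyStructure.Elts Cfsg.Agent.ChevalleyStructure.CoxeterGeom
  Cfsg.Agent.ChevalleyStructure.CoxeterGeomTypes Cfsg.Agent.ChevalleyStructure.NPerm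
open Cfsg.Agent.Tits.Roots Cfsg.Agent.Tits.Core Cfsg.Agent.Nodes Cfsg.Agent.Nodes.Reps Cfsg.Agent.Nodes.BNOf
  Cfsg.Agent.Nodes.RGDChev Cfsg.Agent.Nodes.Bruhat
open Cfsg.Agent.KFacts.RgdField Cfsg.Agent.KFacts.RgdChevCoord Cfsg.Agent.BpExc.TorCent Cfsg.Agent.BpExc.TorChev
open Cfsg.Agent.GpExc.Field Cfsg.Agent.BpExc.Tow Cfsg.Agent.BpExc.TowChev Cfsg.Agent.BpExc.Fr
  Cfsg.Agent.BpExc.LangFr Cfsg.Agent.H129.TorusChar Cfsg.Agent.H129.TorusMain Cfsg.Agent.H123.ExcZ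
open Cfsg.Agent.BpExc Cfsg.Agent.H795.LangT Cfsg.Agent.H795.Core Cfsg.Agent.H795.NotAbT
open Cfsg.Agent.H572.ExcA Cfsg.Agent.H572.ExcB Cfsg.Agent.H572.ExcC Cfsg.Agent.H572.ExcD Cfsg.Agent.H572.LatQ
  Cfsg.Agent.H572.LatForm Cfsg.Agent.H572.ExcE Cfsg.Agent.H572.ExcF
open Cfsg.Agent.H988.CPi Cfsg.Agent.H571.RV Cfsg.Agent.H553.OddHall Cfsg.Agent.H565.CharCnt
open Cfsg.Agent.BpExc.RowsUntw Cfsg.Agent.H720.TwFr Cfsg.Agent.H795.NotAbRows Cfsg.Agent.H167.RV Cfsg.Agent.H167.EX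
open Cfsg.Agent.H795.NotAbData Cfsg.Agent.H795.NotAbCert
open Cfsg.Agent.H565.NM
open Subgroup
open scoped Pointwise

universe u v

/-- a `5`-element acting on a group of order `1, 7, 7², 7³` -/
theorem small_act {Y : Type*} [Group Y] [Finite Y] {y : Y} (hy : ∃ n : ℕ, y ^ 5 ^ n = 1) {V : Subgroup Y}
    (hV : Nat.card V ∣ 7 ^ 3) (hn : ∀ v ∈ V, y * v * y⁻¹ ∈ V) : ∀ v ∈ V, y * v = v * y := by
  classical
  have h5 : Fact (Nat.Prime 5) := ⟨by norm_num⟩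
  have h7 : Nat.Prime 7 := by norm_num
  obtain ⟨n, hyn⟩ := hy
  have := Fintype.ofFinite V
  let f : Function.End V := fun v => ⟨y * v * y⁻¹, hn v v.2⟩
  have hf : ∀ (i : ℕ) (v : V), (((f ^ i) v : V) : Y) = y ^ i * v * (y ^ i)⁻¹ := by
    intro i
    induction i with
    | zero => intro v; rw [pow_zero, pow_zero, one_mul, inv_one, mul_one]; rfl
    | succ i ih =>
      intro v
      have h1 : (f ^ (i + 1)) v = (f ^ i) (f v) := by rw [pow_succ]; rfl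
      rw [h1, ih]
      show y ^ i * (y * v * y⁻¹) * (y ^ i)⁻¹ = _
      rw [pow_succ]; group
  have hf1 : f ^ 5 ^ n = 1 := by
    funext v
    apply Subtype.ext
    rw [hf, hyn, one_mul, inv_one, mul_one]
    rfl
  have h1 := Equiv.Perm.card_fixedPoints_modEq hf1
  let C : Subgroup Y :=
    { carrier := {v | v ∈ V ∧ y * v * y⁻¹ = v}
      mul_mem' := by
        rintro a b ⟨ha, ha'⟩ ⟨hb, hb'⟩
        refine ⟨V.mul_mem ha hb, ?_⟩
        have : y * (a * b) * y⁻¹ = (y * a * y⁻¹) * (y * b * y⁻¹) := by group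
        rw [this, ha', hb']
      one_mem' := ⟨V.one_mem, by group⟩
      inv_mem' := by
        rintro a ⟨ha, ha'⟩
        refine ⟨V.inv_mem ha, ?_⟩
        have : y * a⁻¹ * y⁻¹ = (y * a * y⁻¹)⁻¹ := by group
        rw [this, ha'] }
  have hCV : C ≤ V := fun v hv => hv.1
  have h2 : Fintype.card (Function.fixedPoints f) = Nat.card C := by
    rw [← Nat.card_eq_fintype_card]
    refine Nat.card_congr ⟨fun v => ⟨v.1, v.1.2, congrArg Subtype.val v.2⟩,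
      fun v => ⟨⟨v.1, v.2.1⟩, Subtype.ext v.2.2⟩, fun v => rfl, fun v => rfl⟩
  rw [h2, ← Nat.card_eq_fintype_card] at h1
  obtain ⟨i, hi, hVi⟩ := (Nat.dvd_prime_pow h7).1 hV
  obtain ⟨j, hj, hCj⟩ := (Nat.dvd_prime_pow h7).1 (hVi ▸ Subgroup.card_dvd_of_le hCV)
  have hij : i = j := by
    rw [hVi, hCj] at h1
    have h3 : 7 ^ i % 5 = 7 ^ j % 5 := h1
    have h4 : j ≤ 3 := hj.trans hi
    clear hVi hCj h1
    interval_cases i <;> interval_cases j <;> first | rfl | (exfalso; revert h3; decide)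
  have h3 : C = V := by
    apply Subgroup.eq_of_le_of_card_ge hCV
    rw [hVi, hCj, hij]
  intro v hv
  rw [← h3] at hv
  exact mul_inv_eq_iff_eq_mul.1 hv.2

theorem conj_map {G : Type*} [Group G] {K : Subgroup G} {T : Subgroup K} (hT : T.Normal) :
    ∀ y ∈ K, ∀ v ∈ T.map K.subtype, y * v * y⁻¹ ∈ T.map K.subtype := by
  rintro y hy _ ⟨v, hv, rfl⟩
  exact ⟨⟨y, hy⟩ * v * (⟨y, hy⟩ : K)⁻¹, hT.conj_mem v hv ⟨y, hy⟩, rfl⟩

theorem exists_conj_sylow {G : Type*} [Group G] [Finite G] {p : ℕ} [Fact p.Prime] {R P : Subgroup G}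
    (hRp : IsPGroup p R) (hRi : ¬ p ∣ R.index) (hPp : IsPGroup p P) (hPi : ¬ p ∣ P.index) :
    ∃ g : G, ∀ v, v ∈ P ↔ g⁻¹ * v * g ∈ R := by
  obtain ⟨g, hg⟩ := MulAction.exists_smul_eq G (hRp.toSylow hRi) (hPp.toSylow hPi)
  refine ⟨g, fun v => ?_⟩
  have h1 : MulAut.conj g • R = P := congrArg Sylow.toSubgroup hg
  rw [← h1, Subgroup.mem_pointwise_smul_iff_inv_smul_mem, ← map_inv]
  show g⁻¹ * v * g⁻¹⁻¹ ∈ R ↔ _
  rw [inv_inv]

section Gen

variable {hp : IsType chevE7 7 CoxeterMatrix.E₇}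
  {k : Type u} [Field k] [IsAlgClosed k] {r e : ℕ} [Fact r.Prime] [CharP k r]
  {G : Type v} [Group G] {κ : G →* ↥(chevE7.group k)} {τ : MulAut ↥(chevE7.group k)}
  {θ : (Fin 7 → ℤ) ≃+ (Fin 7 → ℤ)} {ε : ℤ}

/-- the character of a combination of the functionals -/
noncomputable def ps (Q : ℤ) (N : ℕ) : (Fin 3 → ZMod N) →+ ((Fin 7 → ℤ) →+ ZMod N) where
  toFun a :=
    { toFun := fun x => ∑ j, a j * ((∑ i, cf Q j i * x i : ℤ) : ZMod N)
      map_zero' := by simp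
      map_add' := fun x z => by
        rw [← Finset.sum_add_distrib]
        refine Finset.sum_congr rfl fun j _ => ?_
        rw [← mul_add, ← Int.cast_add, ← Finset.sum_add_distrib]
        congr 2
        exact Finset.sum_congr rfl fun i _ => by rw [Pi.add_apply, mul_add] }
  map_zero' := by ext x; simp
  map_add' a b := by
    ext x
    simp [add_mul, Finset.sum_add_distrib]

theorem ps_apply (Q : ℤ) (N : ℕ) (a : Fin 3 → ZMod N) (x : Fin 7 → ℤ) :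
    ps Q N a x = ∑ j, a j * ((∑ i, cf Q j i * x i : ℤ) : ZMod N) := rfl

theorem ps_inj (Q : ℤ) (N : ℕ) : Function.Injective (ps Q N) := by
  rw [injective_iff_map_eq_zero]
  intro a ha
  funext m
  have h1 : ps Q N a (yy m) = 0 := by rw [ha]; rfl
  rw [ps_apply] at h1
  have h2 : ∀ j ∈ Finset.univ, a j * ((∑ i, cf Q j i * yy m i : ℤ) : ZMod N) = if j = m then a j else 0 := by
    intro j _
    rw [cf_yy]
    split_ifs <;> simp
  rw [Finset.sum_congr rfl h2, Finset.sum_ite_eq' Finset.univ m a] at h1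
  simpa using h1

theorem ps_theta (hε : ε = 1 ∨ ε = -1) (hθ : ∀ x, θ x = ε • w7 hp x) {q N : ℕ}
    (hN : (N : ℤ) ∣ (ε * q) ^ 2 + ε * q + 1) (a : Fin 3 → ZMod N) (x : Fin 7 → ℤ) :
    ps (ε * q) N a (θ x) = (q : ZMod N) * ps (ε * q) N a x := by
  have hε2 : ε * ε = 1 := by rcases hε with rfl | rfl <;> norm_num
  rw [ps_apply, ps_apply, Finset.mul_sum]
  refine Finset.sum_congr rfl fun j _ => ?_
  have h1 : ∑ i, cf (ε * q) j i * (θ x) i = q * ∑ i, cf (ε * q) j i * x i -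
      ((ε * q) ^ 2 + ε * q + 1) * (ε * ∑ i, uu j i * x i) := by
    rw [hθ]
    have h2 : ∑ i, cf (ε * q) j i * (ε • w7 hp x) i = ε * ∑ i, cf (ε * q) j i * (w7 hp x) i := by
      rw [Finset.mul_sum]
      refine Finset.sum_congr rfl fun i _ => ?_
      rw [Pi.smul_apply, smul_eq_mul]
      ring
    rw [h2, cf_w (hp := hp)]
    linear_combination (q * ∑ i, cf (ε * q) j i * x i) * hε2
  have h3 : ((((ε * q) ^ 2 + ε * q + 1 : ℤ)) : ZMod N) = 0 := (ZMod.intCast_zmod_eq_zero_iff_dvd _ _).2 hN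
  rw [h1, Int.cast_sub, Int.cast_mul, Int.cast_mul, h3, zero_mul, sub_zero, Int.cast_natCast]
  ring

theorem cop_of_dvd {Q : ℤ} (h : (7 : ℤ) ∣ Q ^ 2 + Q + 1) (a : ℕ) : IsCoprime (Q - 1) (((7 ^ a : ℕ)) : ℤ) := by
  have hp7 : Prime (7 : ℤ) := by exact_mod_cast Nat.prime_iff_prime_int.1 (by norm_num : Nat.Prime 7)
  push_cast
  apply IsCoprime.pow_right
  rw [isCoprime_comm, Prime.coprime_iff_not_dvd hp7]
  intro h1
  have h2 : Q ^ 2 + Q + 1 = (Q - 1) * (Q + 2) + 3 := by ring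
  rw [h2] at h
  have h3 := (dvd_add_right (h1.mul_right (Q + 2))).1 h
  norm_num at h3

variable [Finite G]

/-- **the order of the torus** -/
theorem pow_dvd_TG (hk : LocFin k) (h : Emb hp r e κ τ θ) {d : ℕ} {Bi : Fin 7 → Fin 7 → ℤ}
    (hB : InvC chevE7 7 d Bi) (hd : d ≠ 0) (hε : ε = 1 ∨ ε = -1) (hθ : ∀ x, θ x = ε • w7 hp x)
    (hcm : ∀ a b, τ a = a → τ b = b → ∃ x, κ x = a * b * a⁻¹ * b⁻¹) (h7r : 7 ≠ r) {a : ℕ} (ha : a ≠ 0)
    (hN : ((7 : ℤ) ^ a) ∣ (ε * ((r ^ e : ℕ) : ℤ)) ^ 2 + ε * ((r ^ e : ℕ) : ℤ) + 1) :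
    7 ^ (3 * a) ∣ Nat.card (TG κ) := by
  have h7 : Fact (Nat.Prime 7) := ⟨by norm_num⟩
  have hne : NeZero (7 ^ a) := ⟨pow_ne_zero _ (by norm_num)⟩
  have hd7 : (7 : ℤ) ∣ (ε * ((r ^ e : ℕ) : ℤ)) ^ 2 + ε * ((r ^ e : ℕ) : ℤ) + 1 := (dvd_pow_self 7 ha).trans hN
  obtain ⟨ζ, hζ⟩ := exists_zeta_pow (k := k) (r := r) (s := 7) (a := a) h7r
  have h1 := card_dvd_TG hp hB hd h.inj h.frob h.fr hζ (fun t ht hτ htN =>
    mem_range hk h hB hd hε hθ hcm ht hτ htN (cop_of_dvd hd7 a)) (ps (ε * ((r ^ e : ℕ) : ℤ)) (7 ^ a)) (ps_inj _ _)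
    (fun a' x => ps_theta hε hθ (by push_cast; push_cast at hN; exact hN) a' x)
  rw [Nat.card_fun, Nat.card_zmod, Nat.card_eq_fintype_card, Fintype.card_fin, ← pow_mul, mul_comm a 3] at h1
  exact h1

/-- **the rank of the torus** -/
theorem card_TY (h : Emb hp r e κ τ θ) (hε : ε = 1 ∨ ε = -1) (hθ : ∀ x, θ x = ε • w7 hp x) (h7r : 7 ≠ r)
    (hN : (7 : ℤ) ∣ (ε * ((r ^ e : ℕ) : ℤ)) ^ 2 + ε * ((r ^ e : ℕ) : ℤ) + 1) :
    Nat.card (TY κ h.inj hp 7) ∣ 7 ^ 3 := by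
  classical
  have h7 : Fact (Nat.Prime 7) := ⟨by norm_num⟩
  have hne : NeZero 7 := ⟨by norm_num⟩
  obtain ⟨ζ, hζ⟩ := exists_zeta_pow (k := k) (r := r) (s := 7) (a := 1) h7r
  rw [pow_one] at hζ
  have hpow : ∀ (x : TY κ h.inj hp 7) (y : Fin 7 → ℤ), cX hp (κ x) y ^ 7 = 1 := by
    intro x y
    rw [← cX_pow hp x.2.1, ← map_pow, x.2.2, map_one, cX_one]
  have hn0 : ∀ (x : TY κ h.inj hp 7) (y : Fin 7 → ℤ), cX hp (κ x) y ≠ 0 := fun x y => (isMC_cX hp x.2.1).ne_zero y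
  let φ : TY κ h.inj hp 7 →* (Fin 3 → rootsOfUnity 7 k) :=
    { toFun := fun x j => ⟨Units.mk0 (cX hp (κ x) (yy j)) (hn0 x _), by
        rw [mem_rootsOfUnity]
        ext
        push_cast
        exact hpow x _⟩
      map_one' := by
        funext j
        apply Subtype.ext
        ext
        show cX hp (κ 1) (yy j) = 1
        rw [map_one, cX_one]
      map_mul' := fun x y => by
        funext j
        apply Subtype.ext
        ext
        show cX hp (κ (x * y)) (yy j) = cX hp (κ x) (yy j) * cX hp (κ y) (yy j)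
        rw [map_mul, cX_mul hp x.2.1 y.2.1] }
  have hφ : Function.Injective φ := by
    rw [injective_iff_map_eq_one]
    intro x hx
    apply Subtype.ext
    apply h.inj
    show κ x = κ 1
    rw [map_one]
    refine cX_inj hp x.2.1 (one_mem _) fun i => ?_
    rw [cX_one]
    obtain ⟨c, z, p, hi⟩ := cert (hp := hp) hN i
    have hy : ∀ j, cX hp (κ x) (yy j) = 1 := by
      intro j
      have h1 := congrFun hx j
      have h2 := congrArg (fun u : rootsOfUnity 7 k => ((u : kˣ) : k)) h1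
      exact h2
    have hM := isMC_cX hp x.2.1
    rw [hi, hM.add, hM.add, hM.sub, hM.zsmul, hM.zsmul, hM.sum_smul]
    have hxT : κ (x : G) ∈ TT chevE7 k := x.2.1
    have h3 := char_w h hε hθ hxT (h.fix x) z
    rw [h3, div_self (zpow_ne_zero _ (hn0 x z)), mul_one]
    have h4 : cX hp (κ x) p ^ (7 : ℤ) = 1 := by
      have h5 := hpow x p
      exact_mod_cast h5
    rw [h4, mul_one]
    exact Finset.prod_eq_one fun j _ => by rw [hy, one_zpow]
  have h1 := Subgroup.card_dvd_of_injective φ hφ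
  rw [Nat.card_fun, hζ.card_rootsOfUnity, Nat.card_fin] at h1
  exact h1

/-- **elements which centralise the toral elements of order `7` are toral** -/
theorem mem_TG_of_comm (hk : LocFin k) (h : Emb hp r e κ τ θ) {d : ℕ} {Bi : Fin 7 → Fin 7 → ℤ}
    (hB : InvC chevE7 7 d Bi) (hd : d ≠ 0) (hε : ε = 1 ∨ ε = -1) (hθ : ∀ x, θ x = ε • w7 hp x)
    (hcm : ∀ a b, τ a = a → τ b = b → ∃ x, κ x = a * b * a⁻¹ * b⁻¹) (h7r : 7 ≠ r)
    (hN : (7 : ℤ) ∣ (ε * ((r ^ e : ℕ) : ℤ)) ^ 2 + ε * ((r ^ e : ℕ) : ℤ) + 1) {y : G} {n : ℕ} (hyn : y ^ n = 1)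
    (hn : Nat.Coprime n 7) (hy : ∀ v ∈ TY κ h.inj hp 7, y * v = v * y) : κ y ∈ TT chevE7 k := by
  have h7 : Fact (Nat.Prime 7) := ⟨by norm_num⟩
  have hne : NeZero 7 := ⟨by norm_num⟩
  obtain ⟨ζ, hζ⟩ := exists_zeta_pow (k := k) (r := r) (s := 7) (a := 1) h7r
  rw [pow_one] at hζ
  obtain ⟨m, hm⟩ := pow_mem_set hp hk r (S := κ '' (TY κ h.inj hp 7 : Set G)) (by
    rintro _ ⟨a, ha, rfl⟩
    exact ha.1) h7.out (by
    rintro _ ⟨a, ha, rfl⟩
    exact ⟨1, by rw [pow_one, ← map_pow, ha.2, map_one]⟩) (g := κ y) (by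
    rintro _ ⟨a, ha, rfl⟩
    rw [← map_mul, hy a ha, map_mul])
  have h1 : κ y ^ 7 ^ m ∈ TT chevE7 k := by
    refine (sup_le (RGD.Sup_le fun a ha => ?_) le_rfl : _ ≤ TT chevE7 k) hm
    exfalso
    obtain ⟨b, hb, rfl⟩ := (isRoot_iff hp CoxeterMatrix.E₇.toCoxeterSystem a).1 ha.1
    obtain ⟨j, hj⟩ := reg hN b hb
    obtain ⟨t, ht, hct, ht7, hτt⟩ := exists_tor_fix hp hB hd h.frob h.fr hζ
      (ps (ε * ((r ^ e : ℕ) : ℤ)) 7 (Pi.single j 1)) (fun x => ps_theta hε hθ (by exact_mod_cast hN) _ x)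
    obtain ⟨x, rfl⟩ := mem_range hk h hB hd hε hθ hcm ht hτt ht7 (by simpa using cop_of_dvd hN 1)
    have hx7 : x ^ 7 = 1 := h.inj (by rw [map_pow, ht7, map_one])
    have h3 := ha.2 _ ⟨x, ⟨ht, hx7⟩, rfl⟩
    rw [← cX_vec hp ht hb, hct] at h3
    have h4 : (ps (ε * ((r ^ e : ℕ) : ℤ)) 7 (Pi.single j 1) (vec chevE7 7 b)) = 0 := by
      apply pow_val_inj' hζ
      rw [h3, ZMod.val_zero, pow_zero]
    rw [ps_apply, Finset.sum_eq_single j] at h4
    · rw [Pi.single_eq_same, one_mul] at h4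
      exact hj ((ZMod.intCast_zmod_eq_zero_iff_dvd _ 7).1 h4)
    · intro i _ hi
      rw [Pi.single_eq_of_ne hi, zero_mul]
    · intro hj'
      exact absurd (Finset.mem_univ j) hj'
  refine mem_of_pow_cop (m := n) (n := 7 ^ m) (hn.pow_right m) ?_ h1
  rw [← map_pow, hyn, map_one]

end Gen

set_option maxHeartbeats 800000 in
/-- **`E₇(q)` has no Hall `{5, 7}`-subgroup if `5 ∣ q² + 1`, `7 ∤ q (q² - 1)`.** -/
theorem no_hall {F : Type u} [Field F] [Fintype F] (h5 : 5 ∣ Fintype.card F ^ 2 + 1)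
    (h7 : ¬ 7 ∣ Fintype.card F ^ 2 - 1) (h7F : (7 : F) ≠ 0) (K : Subgroup ↥(chevE7.group F))
    (hK : IsPiHall ({5, 7} : Set ℕ) K) : False := by
  classical
  have h7p : Nat.Prime 7 := by norm_num
  have h5p : Nat.Prime 5 := by norm_num
  have hf7 : Fact (Nat.Prime 7) := ⟨h7p⟩
  have hf5 : Fact (Nat.Prime 5) := ⟨h5p⟩
  have hGf : Finite ↥(chevE7.group F) := inferInstance
  obtain ⟨r, e, hr, hrF, hrk, he, hqF, hk⟩ := Cfsg.Agent.H129.TorusUntw.exists_closure (F := F) rfl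
  set q := Fintype.card F with hq
  have hq2 : 2 ≤ q := Cfsg.Agent.H169.ExcOrd.two_le_card (F := F) rfl
  have h7r : 7 ≠ r := by
    rintro rfl
    exact h7F (CharP.cast_eq_zero F 7)
  have h7q : ¬ 7 ∣ q := by
    intro h
    rw [hqF] at h
    exact h7r ((Nat.prime_dvd_prime_iff_eq h7p hr.out).1 (h7p.dvd_of_dvd_pow h))
  have h5q : ¬ 5 ∣ q := by
    intro h
    have h1 : 5 ∣ q ^ 2 := dvd_pow h two_ne_zero
    have h2 := (Nat.dvd_add_right h1).1 h5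
    exact absurd (Nat.dvd_one.1 h2) (by norm_num)
  have h5F : ((5 : ℕ) : F) ≠ 0 := by
    intro h
    apply h5q
    rw [CharP.cast_eq_zero_iff F r] at h
    rw [hqF]
    have h1 := (Nat.prime_dvd_prime_iff_eq hr.out h5p).1 h
    rw [h1]
    exact dvd_pow_self 5 (by omega)
  have h5d : ¬ 5 ∣ Nat.card F ^ 2 - 1 := by
    rw [Nat.card_eq_fintype_card, ← hq]
    intro h
    have h1 : 1 ≤ q ^ 2 := Nat.one_le_pow _ _ (by omega)
    have h2 := Nat.dvd_sub h5 h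
    have h3 : q ^ 2 + 1 - (q ^ 2 - 1) = 2 := by omega
    rw [h3] at h2
    exact absurd (Nat.le_of_dvd (by norm_num) h2) (by norm_num)
  -- the exponent
  have h6 := seven_dvd_six h7q
  have h6ne : q ^ 6 - 1 ≠ 0 := Cfsg.Agent.H169.ExcOrd.pow_sub_ne hq2 (by norm_num)
  set a := padicValNat 7 (q ^ 6 - 1) with ha
  have ha1 : 7 ^ a ∣ q ^ 6 - 1 := pow_padicValNat_dvd
  have ha2 : ¬ 7 ^ (a + 1) ∣ q ^ 6 - 1 := pow_succ_padicValNat_not_dvd h6ne
  have ha0 : a ≠ 0 := by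
    intro h
    rw [h, zero_add, pow_one] at ha2
    exact ha2 h6
  obtain ⟨ε, hε, hN⟩ := cases_eps h7q h7 hq2 ha1
  -- the embedding
  have hset := setup_untw' e7T datE7 hk he hqF
  obtain ⟨w, hw⟩ : ∃ w : CoxeterMatrix.E₇.Group, ∀ x, rep CoxeterMatrix.E₇.toCoxeterSystem e7T.isCartan w x =
      ε • w7 e7T x := by
    rcases hε with rfl | rfl
    · exact ⟨E7.c6, fun x => by rw [one_smul]⟩
    · refine ⟨E7.c9 * E7.c6, fun x => ?_⟩
      rw [rep_mul_apply, negE7]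
  obtain ⟨κ, τ, z, hEm, hκ, hb⟩ := exists_emb (hp := e7T) hk hset.1 he hset.2.1 hset.2.2.1 hset.2.2.2.1
    hset.2.2.2.2.1 w
  have hθ : ∀ x, ((AddEquiv.refl (Fin 7 → ℤ)).trans (repAut CoxeterMatrix.E₇.toCoxeterSystem e7T.isCartan w)) x =
      ε • w7 e7T x := hw
  have hcm := fun a b => comm_of_comm (κ := κ) (τ := τ) hκ hb hset.2.2.2.2.2 a b
  have hN' : ((7 : ℤ) ^ a) ∣ (ε * ((r ^ e : ℕ) : ℤ)) ^ 2 + ε * ((r ^ e : ℕ) : ℤ) + 1 := by
    rw [← hqF]; exact hN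
  have hN7 : (7 : ℤ) ∣ (ε * ((r ^ e : ℕ) : ℤ)) ^ 2 + ε * ((r ^ e : ℕ) : ℤ) + 1 := (dvd_pow_self 7 ha0).trans hN'
  have hTG := pow_dvd_TG hk hEm datE7.hB datE7.hd0 hε hθ hcm h7r ha0 hN'
  have hTY := card_TY hEm hε hθ h7r hN7
  -- the toral Sylow subgroup
  set P : Subgroup ↥(chevE7.group F) := TS κ hEm.inj e7T 7 with hP
  have hPp : IsPGroup 7 P := by
    rintro ⟨x, hx, j, hj⟩
    exact ⟨j, Subtype.ext hj⟩
  have hPc : 7 ^ (3 * a) ∣ Nat.card P := by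
    obtain ⟨L, hL⟩ := Sylow.exists_subgroup_card_pow_prime 7 hTG
    have hLP : L.map (TG κ).subtype ≤ P := by
      rintro _ ⟨x, hx, rfl⟩
      refine ⟨x.2, ?_⟩
      have hLp : IsPGroup 7 L := IsPGroup.of_card hL
      obtain ⟨j, hj⟩ := hLp ⟨x, hx⟩
      exact ⟨j, congrArg (fun y : L => (((y : TG κ)) : ↥(chevE7.group F))) hj⟩
    have h1 := Subgroup.card_dvd_of_le hLP
    rwa [Subgroup.card_map_of_injective (TG κ).subtype_injective, hL] at h1
  have hPi : ¬ 7 ∣ P.index := by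
    intro h
    apply E7_seven (F := F) rfl h7q h7 ha1 ha2
    rw [pow_succ, ← Subgroup.card_mul_index P]
    exact mul_dvd_mul hPc h
  -- the normal Sylow subgroup of `K`
  obtain ⟨T, hTn, hTp, hTi⟩ := pairN_of_noMin h5p h7p (by norm_num) (by norm_num) (by norm_num)
    (Cfsg.Agent.H169.NoMinE7.noMin_e7_five_seven F h5F h5d) K hK
  set R : Subgroup ↥(chevE7.group F) := T.map K.subtype with hR
  have hRp : IsPGroup 7 R := hTp.map _
  have hRi : ¬ 7 ∣ R.index := by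
    intro h
    rw [hR, Subgroup.index_map_subtype] at h
    rcases (Nat.Prime.dvd_mul h7p).1 h with h | h
    · exact hTi h
    · exact hK.2 7 h7p (by simp) h
  have hRn : ∀ y ∈ K, ∀ v ∈ R, y * v * y⁻¹ ∈ R := conj_map hTn
  obtain ⟨g, hgR⟩ := exists_conj_sylow hRp hRi hPp hPi
  -- the `5`-elements of `K` are trivial
  have hfive : ∀ y ∈ K, (∃ n : ℕ, y ^ 5 ^ n = 1) → y = 1 := by
    rintro y hy ⟨n, hn⟩
    set y' := g * y * g⁻¹ with hy'
    have hn' : y' ^ 5 ^ n = 1 := by rw [hy', conj_pow, hn, mul_one, mul_inv_cancel]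
    have hPn : ∀ v ∈ P, y' * v * y'⁻¹ ∈ P := by
      intro v hv
      rw [hgR] at hv ⊢
      have h1 := hRn y hy _ hv
      have h2 : y * (g⁻¹ * v * g) * y⁻¹ = g⁻¹ * (y' * v * y'⁻¹) * g := by rw [hy']; group
      rwa [h2] at h1
    have hV := small_act ⟨n, hn'⟩ hTY (by
      intro v hv
      have h1 := hPn v ⟨hv.1, 1, by rw [pow_one]; exact hv.2⟩
      exact ⟨h1.1, by rw [conj_pow, hv.2, mul_one, mul_inv_cancel]⟩)
    have hyT := mem_TG_of_comm hk hEm datE7.hB datE7.hd0 hε hθ hcm h7r hN7 hn' (Nat.Coprime.pow_left n (by norm_num)) hV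
    have hone : κ y' = 1 := by
      refine eq_one_of_cop hEm hε hθ hyT (hEm.fix y') (n := 5 ^ n) (by rw [← map_pow, hn', map_one]) ?_
      rw [← hqF]
      have hp5 : Prime (5 : ℤ) := by exact_mod_cast Nat.prime_iff_prime_int.1 h5p
      push_cast
      apply IsCoprime.pow_right
      rw [isCoprime_comm, Prime.coprime_iff_not_dvd hp5]
      intro h1
      have h2 : (5 : ℤ) ∣ (q : ℤ) ^ 2 + 1 := by exact_mod_cast h5
      have hε2 : ε * ε = 1 := by rcases hε with rfl | rfl <;> norm_num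
      have h3 : (5 : ℤ) ∣ ε * q + 1 := by
        have h4 : (ε * (q : ℤ)) ^ 3 - 1 = ((q : ℤ) ^ 2 + 1) * (ε * q) - (ε * q + 1) := by
          linear_combination (ε * (q : ℤ) ^ 3) * hε2
        rw [h4] at h1
        have h5' := dvd_sub (h2.mul_right (ε * (q : ℤ))) h1
        rwa [sub_sub_cancel] at h5'
      have h4 : (q : ℤ) ^ 2 + 1 = (ε * q + 1) * (ε * q - 1) + 2 := by linear_combination (-(q : ℤ) ^ 2) * hε2
      rw [h4] at h2
      have h5' := (dvd_add_right (h3.mul_right (ε * (q : ℤ) - 1))).1 h2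
      norm_num at h5'
    have h1 : y' = 1 := hEm.inj (by rw [hone, map_one])
    rwa [hy', conj_eq_one_iff] at h1
  have h5G := E7_five_dvd (F := F) rfl h5
  have h5K : 5 ∣ Nat.card K := by
    rw [← Subgroup.card_mul_index K] at h5G
    rcases (Nat.Prime.dvd_mul h5p).1 h5G with h | h
    · exact h
    · exact absurd h (hK.2 5 h5p (by simp))
  obtain ⟨⟨y, hy⟩, hoy⟩ := exists_prime_orderOf_dvd_card' 5 h5K
  rw [Subgroup.orderOf_mk] at hoy
  have h1 := hfive y hy ⟨1, by rw [pow_one, ← hoy]; exact pow_orderOf_eq_one y⟩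
  rw [h1, orderOf_one] at hoy
  norm_num at hoy

end Cfsg.Agent.H553.RV.E7B
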