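import Cfsg.Agent.H553.RV.LinD
import Cfsg.Agent.S2536

/-!
# TEAM RV, R2 linear/unitary: the atoms are stable (helper553)
-/

set_option autoImplicit false
set_option linter.unusedSectionVars false

namespace Cfsg.Agent.H553.RV

open Module Cfsg.Agent.H167.OP Cfsg.Agent.H170.HL Cfsg.Agent.H556.HallRowAbs Cfsg.Agent.H556.HallLB
  Cfsg.Agent.H556.HallSmallCen

variable {F : Type*} [Field F] {V : Type*} [AddCommGroup V] [Module F V] {Y : Type*} [Group Y]
  {ρ : Representation F Y V}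

/-- the stabiliser of a subspace -/
def NW [Finite Y] (ρ : Representation F Y V) (W : Submodule F V) : Subgroup Y where
  carrier := {g | St ρ W g}
  mul_mem' ha hb := ha.mul hb
  one_mem' := fun w hw => by rw [one_ap]; exact hw
  inv_mem' ha := ha.inv

/-- the representation on a stable subspace -/
noncomputable def resW [Finite Y] (ρ : Representation F Y V) (W : Submodule F V) : NW ρ W →* Module.End F W where
  toFun g := (ρ g).restrict (fun w hw => g.2 w hw)
  map_one' := by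
    ext w
    simp [LinearMap.restrict_apply]
  map_mul' a b := by
    ext w
    simp [LinearMap.restrict_apply]

theorem resW_apply [Finite Y] (W : Submodule F V) (g : NW ρ W) (w : W) : ((resW ρ W g w : W) : V) = ρ g w := rfl

/-- the local Frobenius count -/
theorem fr_local [FiniteDimensional F V] [Finite Y] {u v j : ℕ} (hu : u.Prime) (hv : v.Prime) (hvF : (v : F) ≠ 0)
    {a z : Y} {W : Submodule F V} (haW : St ρ W a) (hzW : St ρ W z) (hfree : ∀ w ∈ W, ρ a w = w → w = 0)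
    (ha : a ^ v = 1) (hz : z ^ u = 1) (hj : z * a * z⁻¹ = a ^ j) (hne : z * a ≠ a * z) :
    (u - 1) * finrank F W ≤ u * finrank F (Rg ρ z ⊓ W : Submodule F V) := by
  let a' : NW ρ W := ⟨a, haW⟩
  let z' : NW ρ W := ⟨z, hzW⟩
  have h1 := (fr (Y := NW ρ W) (resW ρ W) hu hv hvF (a := a') (z := z') (j := j) (Subtype.ext ha) (Subtype.ext hz)
    (Subtype.ext hj) (fun h => hne (congrArg Subtype.val h))).2
  have h2 : rk (resW ρ W) a' = finrank F W := by
    rw [rk]
    have h3 : LinearMap.ker (resW ρ W a' - 1) = ⊥ := by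
      rw [LinearMap.ker_eq_bot']
      intro w hw
      apply Subtype.ext
      apply hfree w w.2
      have h4 : ((resW ρ W a' - 1) w : W) = (0 : W) := hw
      have h5 : ρ a w - (w : V) = 0 := congrArg Subtype.val h4
      exact sub_eq_zero.mp h5
    have h4 := LinearMap.finrank_range_add_finrank_ker (resW ρ W a' - 1)
    rw [h3, finrank_bot, add_zero] at h4
    exact h4
  have h3 : rk (resW ρ W) z' ≤ finrank F (Rg ρ z ⊓ W : Submodule F V) := by
    rw [rk]
    have h4 : finrank F (LinearMap.range (resW ρ W z' - 1)) =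
        finrank F ((LinearMap.range (resW ρ W z' - 1)).map W.subtype) :=
      LinearEquiv.finrank_eq (Submodule.equivMapOfInjective W.subtype W.injective_subtype _)
    rw [h4]
    apply Submodule.finrank_mono
    rintro _ ⟨_, ⟨w, rfl⟩, rfl⟩
    exact ⟨⟨w, rfl⟩, ((resW ρ W z' - 1) w).2⟩
  rw [h2] at h1
  exact h1.trans (Nat.mul_le_mul_left u h3)

variable [FiniteDimensional F V] [Finite Y] {e : ℕ → ℕ} {X H : Subgroup Y}

/-- the context -/
structure Cx (ρ : Representation F Y V) (e : ℕ → ℕ) (X H : Subgroup Y) : Prop where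
  D : LinDat ρ e X
  hH : HC F H
  idx : ∀ t : ℕ, t.Prime → t ∣ Nat.card H → ¬ t ∣ H.index
  dm : ∀ u v : ℕ, u.Prime → v.Prime → u ∣ Nat.card H → v ∣ Nat.card H → Dm X H u v

theorem Cx.odd (C : Cx ρ e X H) {t : ℕ} (ht : t.Prime) (hd : t ∣ Nat.card H) : Odd t :=
  ht.odd_of_ne_two (C.hH.ok t ht hd).1

theorem Cx.ne (C : Cx ρ e X H) {t : ℕ} (ht : t.Prime) (hd : t ∣ Nat.card H) : (t : F) ≠ 0 := (C.hH.ok t ht hd).2

theorem Cx.frame (C : Cx ρ e X H) {t : ℕ} (ht : t.Prime) (hd : t ∣ Nat.card H) :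
    ∃ (m : ℕ) (z : Fin m → Y), Fm ρ e H t m z :=
  exists_frame C.D ht (C.odd ht hd) (C.ne ht hd) (hd.trans (Subgroup.card_subgroup_dvd_card H)) (C.idx t ht hd)

/-- frames are not empty -/
theorem Cx.pos (C : Cx ρ e X H) {t : ℕ} (ht : t.Prime) (hd : t ∣ Nat.card H) {m : ℕ} {f : Fin m → Y}
    (hf : Fm ρ e H t m f) : 0 < m := by
  by_contra h0
  have h1 := hf.max ⊤ (fun i => absurd i.2 (by omega))
  obtain ⟨x, hx⟩ := @exists_prime_orderOf_dvd_card' _ _ _ t (Fact.mk ht) (hd.trans (Subgroup.card_subgroup_dvd_card H))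
  have h2 := le_rk_of_ne C.D.row ht (C.odd ht hd) (C.ne ht hd) (y := x) (by rw [← hx]; exact pow_orderOf_eq_one x) (by
    rintro rfl
    rw [orderOf_one] at hx
    exact ht.one_lt.ne hx)
  have h3 := Submodule.finrank_mono (le_top : Rg ρ x ≤ ⊤)
  rw [finrank_Rg] at h3
  omega

/-- primes which are not minimal are generic -/
theorem Cx.gen (C : Cx ρ e X H) {r t : ℕ} (hr : r.Prime) (hrH : r ∣ Nat.card H) (ht : t.Prime)
    (htH : t ∣ Nat.card H) (hrt : r < t) : 2 * e t < t := by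
  by_contra hcon
  have h0 := ht.two_le
  have het : e t = t - 1 := by
    obtain ⟨k, hk⟩ := C.D.row.edvd t ht (C.ne ht htH)
    have h1 : k ≠ 0 := by rintro rfl; omega
    have h2 : k < 2 := by
      by_contra h3
      have : e t * 2 ≤ e t * k := Nat.mul_le_mul_left _ (by omega)
      omega
    have h3 : k = 1 := by omega
    rw [h3, mul_one] at hk
    exact hk.symm
  exact nongen C.D C.hH hr ht hrH htH (C.idx r hr hrH) (C.idx t ht htH) hrt het (C.dm t r ht hr htH hrH)

/-- case `e t = r`, `e r = r - 1`: every atom contains a vector fixed by the frame -/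
theorem Cx.gamma_fix (C : Cx ρ e X H) {r t : ℕ} (hr : r.Prime) (hrH : r ∣ Nat.card H) (ht : t.Prime)
    (htH : t ∣ Nat.card H) (hrt : r < t) (het : e t = r) (her : e r = r - 1) {m : ℕ} {f : Fin m → Y}
    (hf : Fm ρ e H r m f) {a : Y} (ha : IsZ ρ e t a) (haH : a ∈ H) :
    ∃ w ∈ Rg ρ a, w ≠ 0 ∧ ∀ i, ρ (f i) w = w := by
  obtain ⟨m', f', hf'⟩ := C.frame ht htH
  have hgen := C.gen hr hrH ht htH hrt
  have hr3 : 3 ≤ r := by
    have h1 := hr.two_le
    rcases C.odd hr hrH with ⟨k, hk⟩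
    omega
  have hst : ∀ i, St ρ (Rg ρ a) (f i) := fun i =>
    stab_atom C.D C.hH hr (C.odd hr hrH) (C.ne hr hrH) ht (C.odd ht htH) (C.ne ht htH) hrt.ne hgen
      (C.dm r t hr ht hrH htH) hf' ha haH (hf.isZ i) (hf.mem i)
  have hsta : St ρ (Rg ρ a) a := fun w hw => map_Rg hw
  have hfree : ∀ w ∈ Rg ρ a, ρ a w = w → w = 0 := fun w hw h => eq_zero_of_fix (C.ne ht htH) ha.1 hw h
  -- a lower bound for the intersection
  have hbig : ∀ i, (¬ ∀ w ∈ Rg ρ a, ρ (f i) w = w) → r - 1 ≤ finrank F (Rg ρ (f i) ⊓ Rg ρ a : Submodule F V) := by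
    intro i hi
    have hne : f i * a ≠ a * f i := by
      intro hc
      rcases dicho C.D ht (C.odd ht htH) (C.ne ht htH) ha hc.symm (C.ne hr hrH) (hf.isZ i).1 with h | h
      · exact hi h
      · have h2 : Rg ρ a ≤ Rg ρ (f i) := le_Rg_of_free (hst i) h
        have h3 := Submodule.finrank_mono h2
        rw [finrank_Rg, finrank_Rg, ha.2, (hf.isZ i).2] at h3
        omega
    obtain ⟨j, hj⟩ := norm_atom C.D C.hH ht (C.odd ht htH) (C.ne ht htH) hgen ha haH (hf.mem i) (hst i)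
    have h1 := fr_local hr ht (C.ne ht htH) hsta (hst i) hfree ha.1 (hf.isZ i).1 hj hne
    rw [finrank_Rg, ha.2, het, mul_comm (r - 1) r] at h1
    exact Nat.le_of_mul_le_mul_left h1 hr.pos
  have hne0 : Rg ρ a ≠ ⊥ := by
    intro h
    have h6 : finrank F (Rg ρ a) = 0 := by rw [h, finrank_bot]
    rw [finrank_Rg, ha.2] at h6
    omega
  by_cases hall : ∀ i, ∀ w ∈ Rg ρ a, ρ (f i) w = w
  · obtain ⟨w, hw, hw0⟩ := Submodule.exists_mem_ne_zero_of_ne_bot hne0
    exact ⟨w, hw, hw0, fun i => hall i w hw⟩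
  · push Not at hall
    obtain ⟨i, w₀, hw₀, hi₀⟩ := hall
    have hi : ¬ ∀ w ∈ Rg ρ a, ρ (f i) w = w := fun h => hi₀ (h w₀ hw₀)
    have hother : ∀ k, k ≠ i → ∀ w ∈ Rg ρ a, ρ (f k) w = w := by
      intro k hki
      by_contra hk
      have h1 := hbig i hi
      have h2 := hbig k hk
      have h3 : Disjoint (Rg ρ (f i) ⊓ Rg ρ a) (Rg ρ (f k) ⊓ Rg ρ a) := by
        rw [Submodule.disjoint_def]
        rintro w ⟨hw, -⟩ ⟨hw', -⟩
        refine eq_zero_of_fix (C.ne hr hrH) (hf.isZ i).1 hw ?_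
        obtain ⟨v, rfl⟩ := mem_Rg.mp hw'
        exact hf.ind i k hki.symm v
      have h4 := Submodule.finrank_sup_add_finrank_inf_eq (Rg ρ (f i) ⊓ Rg ρ a) (Rg ρ (f k) ⊓ Rg ρ a)
      rw [h3.eq_bot, finrank_bot] at h4
      have h5 := Submodule.finrank_mono (sup_le inf_le_right inf_le_right :
        (Rg ρ (f i) ⊓ Rg ρ a) ⊔ (Rg ρ (f k) ⊓ Rg ρ a) ≤ Rg ρ a)
      rw [finrank_Rg, ha.2, het] at h5
      omega
    obtain ⟨w, hw, hw0, hwi⟩ : ∃ w ∈ Rg ρ a, w ≠ 0 ∧ ρ (f i) w = w := by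
      by_contra hcon
      push Not at hcon
      have h2 : Rg ρ a ≤ Rg ρ (f i) := le_Rg_of_free (hst i) fun w hw h => by
        by_contra hw0
        exact hcon w hw hw0 h
      have h3 := Submodule.finrank_mono h2
      rw [finrank_Rg, finrank_Rg, ha.2, (hf.isZ i).2] at h3
      omega
    refine ⟨w, hw, hw0, fun k => ?_⟩
    by_cases hki : k = i
    · rw [hki]; exact hwi
    · exact hother k hki w hw

/-- case `e t = e r`: the frames have the same supports -/
theorem Cx.same_atom (C : Cx ρ e X H) {u v : ℕ} (hu : u.Prime) (huH : u ∣ Nat.card H) (hv : v.Prime)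
    (hvH : v ∣ Nat.card H) (huv : e u = e v) {m : ℕ} {f : Fin m → Y} (hf : Fm ρ e H u m f) {a : Y}
    (ha : IsZ ρ e v a) (hc : ∀ i, f i * a = a * f i) : ∃ i, Rg ρ a = Rg ρ (f i) := by
  have h1 : ¬ ∀ i, ∀ w ∈ Rg ρ a, ρ (f i) w = w := by
    intro h
    have := hf.max (Rg ρ a) h
    rw [finrank_Rg, ha.2] at this
    omega
  push Not at h1
  obtain ⟨i, w, hw, hwi⟩ := h1
  refine ⟨i, ?_⟩
  rcases dicho C.D hv (C.odd hv hvH) (C.ne hv hvH) ha (hc i).symm (C.ne hu huH) (hf.isZ i).1 with h | h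
  · exact absurd (h w hw) hwi
  · apply Submodule.eq_of_le_of_finrank_eq
    · exact le_Rg_of_free (fun w hw => comm_Rg (hc i).symm hw) h
    · rw [finrank_Rg, finrank_Rg, ha.2, (hf.isZ i).2, huv]

/-- the supports of a frame are distinct -/
theorem Cx.frame_inj (C : Cx ρ e X H) {u : ℕ} (hu : u.Prime) (huH : u ∣ Nat.card H) {m : ℕ} {f : Fin m → Y}
    (hf : Fm ρ e H u m f) {i j : Fin m} (h : Rg ρ (f i) = Rg ρ (f j)) : i = j := by
  by_contra hij
  have h1 : Rg ρ (f i) = ⊥ := by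
    rw [eq_bot_iff]
    intro w hw
    rw [Submodule.mem_bot]
    refine eq_zero_of_fix (C.ne hu huH) (hf.isZ i).1 hw ?_
    rw [h] at hw
    obtain ⟨v, rfl⟩ := mem_Rg.mp hw
    exact hf.ind i j hij v
  have h2 : finrank F (Rg ρ (f i)) = 0 := by rw [h1, finrank_bot]
  rw [finrank_Rg, (hf.isZ i).2] at h2
  have := C.D.row.epos u hu (C.ne hu huH)
  omega

/-- the image of `H` in the symmetric group of a frame -/
theorem Cx.perm_hall (C : Cx ρ e X H) {u : ℕ} (hu : u.Prime) (huH : u ∣ Nat.card H) {m : ℕ} {f : Fin m → Y}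
    (hf : Fm ρ e H u m f) (hst : ∀ h ∈ H, ∀ i, ∃ i', (Rg ρ (f i)).map (ρ h) = Rg ρ (f i')) :
    IsEPiGroup {p : ℕ | p ∣ Nat.card H} (Equiv.Perm (Fin m)) := by
  classical
  let N : Subgroup Y :=
    { carrier := {y | ∃ σ : Equiv.Perm (Fin m), ∀ i, (Rg ρ (f i)).map (ρ y) = Rg ρ (f (σ i))}
      mul_mem' := by
        rintro x y ⟨σ, hσ⟩ ⟨τ, hτ⟩
        refine ⟨σ * τ, fun i => ?_⟩
        rw [map_mul, Module.End.mul_eq_comp, Submodule.map_comp, hτ, hσ]
        rfl
      one_mem' := ⟨1, fun i => by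
        rw [map_one, Module.End.one_eq_id, Submodule.map_id]
        rfl⟩
      inv_mem' := by
        rintro x ⟨σ, hσ⟩
        refine ⟨σ⁻¹, fun i => ?_⟩
        have h1 := hσ (σ⁻¹ i)
        rw [show σ (σ⁻¹ i) = i from σ.apply_symm_apply i] at h1
        rw [← h1, ← Submodule.map_comp, ← Module.End.mul_eq_comp, ← map_mul, inv_mul_cancel, map_one,
          Module.End.one_eq_id, Submodule.map_id] }
  have hinj : ∀ {i j}, Rg ρ (f i) = Rg ρ (f j) → i = j := fun h => C.frame_inj hu huH hf h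
  have hmapinj : ∀ y : Y, Function.Injective (fun W : Submodule F V => W.map (ρ y)) := by
    intro y W W' h
    have h1 := congrArg (fun U : Submodule F V => U.map (ρ y⁻¹)) h
    simp only [← Submodule.map_comp, ← Module.End.mul_eq_comp, ← map_mul, inv_mul_cancel, map_one,
      Module.End.one_eq_id, Submodule.map_id] at h1
    exact h1
  choose s hs using fun y : N => y.2
  have huniq : ∀ (y : N) (σ : Equiv.Perm (Fin m)), (∀ i, (Rg ρ (f i)).map (ρ y) = Rg ρ (f (σ i))) → s y = σ := by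
    intro y σ hσ
    ext i
    have h1 := (hs y i).symm.trans (hσ i)
    rw [hinj h1]
  let φ : N →* Equiv.Perm (Fin m) :=
    { toFun := s
      map_one' := huniq 1 1 fun i => by
        show (Rg ρ (f i)).map (ρ (1 : Y)) = _
        rw [map_one, Module.End.one_eq_id, Submodule.map_id]
        rfl
      map_mul' := fun x y => huniq (x * y) (s x * s y) fun i => by
        show (Rg ρ (f i)).map (ρ ((x : Y) * (y : Y))) = _
        rw [map_mul, Module.End.mul_eq_comp, Submodule.map_comp, hs y, hs x]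
        rfl }
  have hφ : Function.Surjective φ := by
    intro σ
    obtain ⟨y, hy⟩ := hf.perm σ
    have h1 : ∀ i, (Rg ρ (f i)).map (ρ y) = Rg ρ (f (σ i)) := fun i => by rw [← hy i, Rg_conj]
    exact ⟨⟨y, σ, h1⟩, huniq _ σ h1⟩
  have hHN : H ≤ N := by
    intro h hh
    choose g hg using hst h hh
    have hgi : Function.Injective g := by
      intro i j hij
      apply hinj
      apply hmapinj h
      show (Rg ρ (f i)).map (ρ h) = (Rg ρ (f j)).map (ρ h)
      rw [hg, hg, hij]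
    exact ⟨Equiv.ofBijective g (Finite.injective_iff_bijective.mp hgi), fun i => hg i⟩
  refine ⟨(H.subgroupOf N).map φ, fun p hp hd => ?_, fun p hp hpH hd => ?_⟩
  · have h1 : Nat.card ((H.subgroupOf N).map φ) ∣ Nat.card (H.subgroupOf N) :=
      Subgroup.card_map_dvd (H.subgroupOf N) φ
    have h2 : Nat.card (H.subgroupOf N) = Nat.card H := Nat.card_congr (Subgroup.subgroupOfEquivOfLe hHN).toEquiv
    rw [h2] at h1
    exact hd.trans h1
  · have h1 : ((H.subgroupOf N).map φ).index ∣ (H.subgroupOf N).index := Subgroup.index_map_dvd _ hφ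
    have h2 : H.relIndex N ∣ H.index := ⟨N.index, (Subgroup.relIndex_mul_index hHN).symm⟩
    exact C.idx p hp hpH (hd.trans (h1.trans h2))

end Cfsg.Agent.H553.RV
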