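import Cfsg.Agent.H556.HallRowAbs
import Cfsg.Agent.H571.RV.Pred

/-!
# TEAM RV, R2 (`2, p ∉ π`) for linear and unitary groups: the data (helper553)
-/

set_option autoImplicit false

namespace Cfsg.Agent.H553.RV

open Module Cfsg.Agent.H167.OP Cfsg.Agent.H170.HL Cfsg.Agent.H556.HallRowAbs

variable {F : Type*} [Field F] {V : Type*} [AddCommGroup V] [Module F V] {Y : Type*} [Group Y]

/-- The elements `z` with `z ^ t = 1` whose support `[V, z]` has dimension `e t`. -/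
def IsZ (ρ : Representation F Y V) (e : ℕ → ℕ) (t : ℕ) (z : Y) : Prop := z ^ t = 1 ∧ rk ρ z = e t

/-- Data of `GL_n(q)`, `GU_n(q)` (`= Y`), `X` the special subgroup, `e t` the order of `q`, `-q` modulo `t`. -/
structure LinDat [Finite Y] (ρ : Representation F Y V) (e : ℕ → ℕ) (X : Subgroup Y) : Prop where
  row : RowDat ρ e
  /-- restriction of a commuting element to `[V, z]` -/
  rc : ∀ (k : ℕ) (z x : Y), (k : F) ≠ 0 → z ^ k = 1 → z * x = x * z →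
    ∃ x' : Y, (∀ v ∈ LinearMap.range (ρ z - 1), ρ x' v = ρ x v) ∧ ∀ v, ρ z v = v → ρ x' v = v
  /-- frames -/
  fr : ∀ t : ℕ, t.Prime → Odd t → (t : F) ≠ 0 → t ∣ Nat.card Y → ∃ (m : ℕ) (z : Fin m → Y),
    (∀ i, IsZ ρ e t (z i)) ∧ (∀ i j, z i * z j = z j * z i) ∧
    (∀ i j, i ≠ j → ∀ v, ρ (z i) (ρ (z j) v - v) = ρ (z j) v - v) ∧
    (∀ U : Submodule F V, (∀ i, ∀ v ∈ U, ρ (z i) v = v) → finrank F U < e t) ∧
    ∀ σ : Equiv.Perm (Fin m), ∃ y : Y, ∀ i, y * z i * y⁻¹ = z (σ i)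
  /-- the special commuting pair -/
  de : ∀ u v : ℕ, u.Prime → v.Prime → u ≠ v → Odd u → Odd v → (u : F) ≠ 0 → (v : F) ≠ 0 → e u = u - 1 → e v = 1 →
    u ≤ finrank F V → ∃ z ∈ X, ∃ b ∈ X, IsZ ρ e u z ∧ b ^ v = 1 ∧ z * b = b * z ∧
      ∃ c : F, (∀ w ∈ LinearMap.range (ρ z - 1), ρ b w = c • w) ∧
        ∀ w, ρ b w = c • w → w ∈ LinearMap.range (ρ z - 1)

end Cfsg.Agent.H553.RV
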