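import Cfsg.Agent.H553.RV.LinDat
import Cfsg.Agent.H556.SmallAb
import Cfsg.Agent.H556.HallLB

/-!
# TEAM RV, R2 linear/unitary: supports of elements (helper553)
-/

set_option autoImplicit false

namespace Cfsg.Agent.H553.RV

open Module Cfsg.Agent.H167.OP Cfsg.Agent.H170.HL Cfsg.Agent.H556.HallRowAbs Cfsg.Agent.H556.HallLB

variable {F : Type*} [Field F] {V : Type*} [AddCommGroup V] [Module F V] {Y : Type*} [Group Y]
  {ρ : Representation F Y V}

/-- the support `[V, y]` -/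
noncomputable def Rg (ρ : Representation F Y V) (y : Y) : Submodule F V := LinearMap.range (ρ y - 1)

theorem finrank_Rg (y : Y) : finrank F (Rg ρ y) = rk ρ y := rfl

theorem sub_mem_Rg (y : Y) (v : V) : ρ y v - v ∈ Rg ρ y := ⟨v, rfl⟩

theorem mem_Rg {y : Y} {w : V} : w ∈ Rg ρ y ↔ ∃ v, ρ y v - v = w := Iff.rfl

theorem pow_one_map {y : Y} {k : ℕ} (hy : y ^ k = 1) : (ρ y) ^ k = 1 := by rw [← map_pow, hy, map_one]

theorem eq_zero_of_fix {y : Y} {k : ℕ} (hk : (k : F) ≠ 0) (hy : y ^ k = 1) {w : V} (hw : w ∈ Rg ρ y)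
    (hf : ρ y w = w) : w = 0 := eq_zero_of_fixed (pow_one_map hy) hk hw hf

theorem map_Rg {y : Y} {w : V} (hw : w ∈ Rg ρ y) : ρ y w ∈ Rg ρ y := map_range hw

/-- the decomposition `V = [V, y] ⊕ C_V(y)` -/
theorem exists_decomp {y : Y} {k : ℕ} (hk : (k : F) ≠ 0) (hy : y ^ k = 1) (v : V) :
    ∃ a ∈ Rg ρ y, ∃ b, ρ y b = b ∧ v = a + b := by
  have hsum : ∀ n : ℕ, ρ (y ^ n) v - v ∈ Rg ρ y := by
    intro n
    induction n with
    | zero => rw [pow_zero, one_ap, sub_self]; exact Submodule.zero_mem _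
    | succ n ih =>
      have h1 : ρ (y ^ (n + 1)) v - v = (ρ y (ρ (y ^ n) v) - ρ (y ^ n) v) + (ρ (y ^ n) v - v) := by
        rw [pow_succ', mul_ap]; abel
      rw [h1]
      exact Submodule.add_mem _ (sub_mem_Rg _ _) ih
  set s : V := ∑ i ∈ Finset.range k, ρ (y ^ i) v with hs
  have h1 : ρ y s = s := by
    rw [hs, map_sum]
    have h2 : ∀ i ∈ Finset.range k, ρ y (ρ (y ^ i) v) = ρ (y ^ (i + 1)) v := fun i _ => by rw [pow_succ', mul_ap]
    rw [Finset.sum_congr rfl h2]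
    have h3 := Finset.sum_range_succ (fun i => ρ (y ^ i) v) k
    have h4 := Finset.sum_range_succ' (fun i => ρ (y ^ i) v) k
    rw [h3, hy, pow_zero] at h4
    exact (add_right_cancel h4).symm
  have h2 : (k : F) • v - s ∈ Rg ρ y := by
    have h3 : (k : F) • v - s = -∑ i ∈ Finset.range k, (ρ (y ^ i) v - v) := by
      rw [Finset.sum_sub_distrib, Finset.sum_const, Finset.card_range, ← hs, Nat.cast_smul_eq_nsmul]
      abel
    rw [h3]
    exact Submodule.neg_mem _ (Submodule.sum_mem _ fun i _ => hsum i)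
  refine ⟨(k : F)⁻¹ • ((k : F) • v - s), Submodule.smul_mem _ _ h2, (k : F)⁻¹ • s, ?_, ?_⟩
  · rw [map_smul, h1]
  · rw [← smul_add, sub_add_cancel, smul_smul, inv_mul_cancel₀ hk, one_smul]

theorem comm_fix {x y : Y} (h : y * x = x * y) {v : V} (hv : ρ y v = v) : ρ y (ρ x v) = ρ x v := by
  rw [← mul_ap, h, mul_ap, hv]

theorem comm_Rg {x y : Y} (h : y * x = x * y) {v : V} (hv : v ∈ Rg ρ y) : ρ x v ∈ Rg ρ y := by
  obtain ⟨w, rfl⟩ := mem_Rg.mp hv
  rw [map_sub, ← mul_ap, ← h, mul_ap]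
  exact sub_mem_Rg _ _

theorem Rg_conj (g y : Y) : Rg ρ (g * y * g⁻¹) = (Rg ρ y).map (ρ g) := by
  ext w
  constructor
  · intro hw
    obtain ⟨v, rfl⟩ := mem_Rg.mp hw
    refine ⟨ρ y (ρ g⁻¹ v) - ρ g⁻¹ v, sub_mem_Rg _ _, ?_⟩
    rw [map_sub, ap_inv, mul_ap, mul_ap]
  · rintro ⟨w, hw, rfl⟩
    obtain ⟨v, rfl⟩ := mem_Rg.mp hw
    refine mem_Rg.mpr ⟨ρ g v, ?_⟩
    rw [mul_ap, mul_ap, inv_ap, map_sub]

theorem rk_conj [FiniteDimensional F V] (g y : Y) : rk ρ (g * y * g⁻¹) = rk ρ y := by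
  rw [← finrank_Rg, Rg_conj, ← finrank_Rg]
  refine (LinearEquiv.finrank_eq ((Rg ρ y).equivMapOfInjective (ρ g) ?_)).symm
  intro v w h
  have := congrArg (ρ g⁻¹) h
  rwa [inv_ap, inv_ap] at this

theorem IsZ.conj [FiniteDimensional F V] {e : ℕ → ℕ} {t : ℕ} {z : Y} (h : IsZ ρ e t z) (g : Y) :
    IsZ ρ e t (g * z * g⁻¹) :=
  ⟨by rw [conj_pow, h.1, mul_one, mul_inv_cancel], by rw [rk_conj, h.2]⟩

theorem eq_one_of_Rg (hinj : Function.Injective ρ) {y : Y} (h : Rg ρ y = ⊥) : y = 1 := by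
  apply hinj
  rw [map_one]
  ext v
  have h1 : ρ y v - v ∈ Rg ρ y := sub_mem_Rg y v
  rw [h, Submodule.mem_bot, sub_eq_zero] at h1
  exact h1

/-- the lower bound -/
theorem le_rk_of_ne [FiniteDimensional F V] [Finite Y] {e : ℕ → ℕ} (h : RowDat ρ e) {t : ℕ} (ht : t.Prime)
    (hodd : Odd t) (htF : (t : F) ≠ 0) {y : Y} (hy : y ^ t = 1) (hy1 : y ≠ 1) : e t ≤ rk ρ y := by
  have hcard : (Nat.card (Subgroup.zpowers y) : F) ≠ 0 := by
    have h1 : Nat.card (Subgroup.zpowers y) = t := by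
      have := Fact.mk ht
      rw [Nat.card_zpowers, orderOf_eq_prime hy hy1]
    rw [h1]; exact htF
  have hab : ∀ a ∈ Subgroup.zpowers y, ∀ b ∈ Subgroup.zpowers y, a * b = b * a := by
    rintro _ ⟨i, rfl⟩ _ ⟨j, rfl⟩
    show y ^ i * y ^ j = y ^ j * y ^ i
    rw [← zpow_add, ← zpow_add, add_comm]
  have hexp : ∀ a ∈ Subgroup.zpowers y, a ^ t = 1 := by
    rintro _ ⟨i, rfl⟩
    show (y ^ i) ^ t = 1
    rw [← zpow_natCast, ← zpow_mul, mul_comm, zpow_mul, zpow_natCast, hy, one_zpow]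
  have hV : VE ρ ⊥ (Subgroup.zpowers y) ≠ ⊥ := by
    intro hbot
    apply hy1
    apply eq_one_of_Rg h.inj
    rw [eq_bot_iff]
    rintro w hw
    rw [Submodule.mem_bot]
    obtain ⟨v, rfl⟩ := mem_Rg.mp hw
    have h1 : ρ y v - v ∈ VE ρ ⊥ (Subgroup.zpowers y) := by
      refine ⟨fun e he => ?_, ?_⟩
      · rw [Subgroup.mem_bot] at he
        rw [he, one_ap]
      · rw [map_sub, avg_map ρ _ (Subgroup.mem_zpowers y), sub_self]
    rw [hbot, Submodule.mem_bot] at h1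
    exact h1
  have h1 := h.lb t ht hodd htF _ _ bot_le hab hexp hV
  refine h1.trans ((Submodule.finrank_mono (VE_le_CV ρ hcard)).trans (Submodule.finrank_mono ?_))
  have h2 : Subgroup.zpowers y = Subgroup.closure {y} := Subgroup.zpowers_eq_closure y
  rw [h2]
  refine CV_closure_le ?_
  intro s hs
  rw [Set.mem_singleton_iff] at hs
  rw [hs]

/-- **dichotomy**: `x` commutes with `z` of minimal support: `x` is trivial or fixed point free on `[V, z]` -/
theorem dicho [FiniteDimensional F V] [Finite Y] {e : ℕ → ℕ} {X : Subgroup Y} (D : LinDat ρ e X) {t : ℕ}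
    (ht : t.Prime) (hodd : Odd t) (htF : (t : F) ≠ 0) {z x : Y} (hz : IsZ ρ e t z) (hzx : z * x = x * z) {k : ℕ}
    (hk : (k : F) ≠ 0) (hx : x ^ k = 1) :
    (∀ w ∈ Rg ρ z, ρ x w = w) ∨ (∀ w ∈ Rg ρ z, ρ x w = w → w = 0) := by
  obtain ⟨z', h1, h2⟩ := D.rc k x z hk hx hzx.symm
  -- `z'' = z'⁻¹ z` is trivial on `[V, x]` and `z` on `C_V(x)`
  have h3 : ∀ v ∈ Rg ρ x, ρ (z'⁻¹ * z) v = v := by
    intro v hv
    rw [mul_ap, ← h1 v hv, inv_ap]
  have h4 : ∀ v, ρ x v = v → ρ (z'⁻¹ * z) v = ρ z v := by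
    intro v hv
    rw [mul_ap]
    have h5 : ρ z' (ρ z v) = ρ z v := h2 _ (comm_fix hzx.symm hv)
    conv_lhs => rw [← h5]
    rw [inv_ap]
  have h5 : (z'⁻¹ * z) ^ t = 1 := by
    apply D.row.inj
    rw [map_one]
    ext v
    obtain ⟨a, ha, b, hb, rfl⟩ := exists_decomp hk hx v
    have h6 : ∀ i : ℕ, ρ ((z'⁻¹ * z) ^ i) a = a := by
      intro i
      induction i with
      | zero => rw [pow_zero, one_ap]
      | succ i ih => rw [pow_succ', mul_ap, ih, h3 a ha]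
    have h7 : ∀ i : ℕ, ρ ((z'⁻¹ * z) ^ i) b = ρ (z ^ i) b := by
      intro i
      induction i with
      | zero => rw [pow_zero, pow_zero]
      | succ i ih =>
        rw [pow_succ', mul_ap, ih, h4, pow_succ', mul_ap]
        have h8 : ∀ j : ℕ, ρ x (ρ (z ^ j) b) = ρ (z ^ j) b := by
          intro j
          induction j with
          | zero => rw [pow_zero, one_ap, hb]
          | succ j ihj => rw [pow_succ', mul_ap]; exact comm_fix hzx.symm ihj
        exact h8 i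
    rw [map_add, h6, h7, hz.1, one_ap]
    rfl
  by_cases h6 : z'⁻¹ * z = 1
  · right
    intro w hw hxw
    have h7 := h4 w hxw
    rw [h6, one_ap] at h7
    exact eq_zero_of_fix htF hz.1 hw h7.symm
  · left
    have h7 := le_rk_of_ne D.row ht hodd htF h5 h6
    have h8 : Rg ρ (z'⁻¹ * z) ≤ Rg ρ z ⊓ LinearMap.ker (ρ x - 1) := by
      intro w hw
      obtain ⟨v, rfl⟩ := mem_Rg.mp hw
      obtain ⟨a, ha, b, hb, rfl⟩ := exists_decomp hk hx v
      have h9 : ρ (z'⁻¹ * z) (a + b) - (a + b) = ρ z b - b := by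
        rw [map_add, h3 a ha, h4 b hb]; abel
      rw [h9]
      refine ⟨sub_mem_Rg _ _, LinearMap.mem_ker.mpr ?_⟩
      rw [LinearMap.sub_apply, Module.End.one_apply, sub_eq_zero, map_sub, hb, comm_fix hzx.symm hb]
    have h9 : Rg ρ z ⊓ LinearMap.ker (ρ x - 1) = Rg ρ z := by
      apply Submodule.eq_of_le_of_finrank_le inf_le_left
      rw [finrank_Rg, hz.2]
      exact h7.trans (Submodule.finrank_mono h8)
    intro w hw
    rw [← h9] at hw
    have := LinearMap.mem_ker.mp hw.2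
    rwa [LinearMap.sub_apply, Module.End.one_apply, sub_eq_zero] at this

/-- fixed point free elements on a subspace contain it in their support -/
theorem le_Rg_of_free [FiniteDimensional F V] {x : Y} {W : Submodule F V} (hinv : ∀ w ∈ W, ρ x w ∈ W)
    (hfree : ∀ w ∈ W, ρ x w = w → w = 0) : W ≤ Rg ρ x := by
  let A : W →ₗ[F] W := (ρ x - 1).restrict (fun w hw => by
    rw [LinearMap.sub_apply, Module.End.one_apply]
    exact W.sub_mem (hinv w hw) hw)
  have hA : Function.Injective A := by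
    rw [← LinearMap.ker_eq_bot, LinearMap.ker_eq_bot']
    intro w hw
    apply Subtype.ext
    apply hfree w w.2
    have := congrArg Subtype.val hw
    have h2 : ρ x (w : V) - w = 0 := this
    exact sub_eq_zero.mp h2
  have hA' := LinearMap.injective_iff_surjective.mp hA
  intro w hw
  obtain ⟨v, hv⟩ := hA' ⟨w, hw⟩
  exact mem_Rg.mpr ⟨v, congrArg Subtype.val hv⟩

end Cfsg.Agent.H553.RV
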