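import Cfsg.Agent.H553.RV.LinG
import Cfsg.Agent.H380.RV.TrLin

/-!
# TEAM RV, R2 linear/unitary: the abstract theorem and the rows (helper553)
-/

set_option autoImplicit false
set_option linter.unusedSectionVars false

namespace Cfsg.Agent.H553.RV

open Module Cfsg Cfsg.Agent.H167.OP Cfsg.Agent.H170.HL Cfsg.Agent.H556.HallRowAbs Cfsg.Agent.H556.HallLB
  Cfsg.Agent.H556.HallSmallCen Cfsg.Agent.H988.CPi Cfsg.Agent.H571.DExt Cfsg.Agent.H571.RV
open scoped Pointwise

section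

variable {F : Type*} [Field F] {V : Type*} [AddCommGroup V] [Module F V] {Y : Type*} [Group Y]
  {ρ : Representation F Y V} [FiniteDimensional F V] [Finite Y] {e : ℕ → ℕ} {X H : Subgroup Y}

/-- the elements of `H` of prime power order, prime `≠ r` -/
def gens (H : Subgroup Y) (r : ℕ) : Set Y :=
  {x | x ∈ H ∧ ∃ t : ℕ, t.Prime ∧ t ∣ Nat.card H ∧ t ≠ r ∧ ∃ k : ℕ, x ^ t ^ k = 1}

theorem Cx.gens_comm (C : Cx ρ e X H) {r : ℕ} (hr : r.Prime) (hrH : r ∣ Nat.card H)
    (hmin : ∀ t : ℕ, t.Prime → t ∣ Nat.card H → r ≤ t) :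
    ∀ x ∈ gens H r, ∀ y ∈ gens H r, x * y = y * x := by
  rintro x ⟨hxH, t, ht, htH, htr, hx⟩ y ⟨hyH, s, hs, hsH, hsr, hy⟩
  have hrt : r < t := lt_of_le_of_ne (hmin t ht htH) (Ne.symm htr)
  have hrs : r < s := lt_of_le_of_ne (hmin s hs hsH) (Ne.symm hsr)
  have hxB := C.mem_Bt hr hrH ht htH hrt hxH hx
  have hyB := C.mem_Bt hr hrH hs hsH hrs hyH hy
  by_cases hts : t = s
  · subst hts
    exact Bt_comm C.D.row.inj C.hH ht (C.ne ht htH) x hxB y hyB
  · have h1 : x * y * x⁻¹ * y⁻¹ ∈ Bt ρ H s := (Bt ρ H s).mul_mem (Bt_conj hxH y hyB) ((Bt ρ H s).inv_mem hyB)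
    have h2 : x * y * x⁻¹ * y⁻¹ ∈ Bt ρ H t := by
      have h3 : x * y * x⁻¹ * y⁻¹ = x * (y * x⁻¹ * y⁻¹) := by group
      rw [h3]
      exact (Bt ρ H t).mul_mem hxB (Bt_conj hyH _ ((Bt ρ H t).inv_mem hxB))
    obtain ⟨k, hk⟩ := Bt_pgroup C.D.row.inj C.hH hs (C.ne hs hsH) _ h1
    obtain ⟨l, hl⟩ := Bt_pgroup C.D.row.inj C.hH ht (C.ne ht htH) _ h2
    have h3 : x * y * x⁻¹ * y⁻¹ = 1 := eq_one_of_coprime_pow hk hl
      (Nat.Coprime.pow _ _ ((Nat.coprime_primes hs ht).mpr (Ne.symm hts)))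
    calc x * y = (x * y * x⁻¹ * y⁻¹) * (y * x) := by group
      _ = y * x := by rw [h3, one_mul]

/-- **the structure of `H`** -/
theorem Cx.structure_min (C : Cx ρ e X H) {r : ℕ} (hr : r.Prime) (hrH : r ∣ Nat.card H)
    (hmin : ∀ t : ℕ, t.Prime → t ∣ Nat.card H → r ≤ t) :
    Subgroup.closure (gens H r) ≤ H ∧ H ≤ Subgroup.normalizer (Subgroup.closure (gens H r) : Set Y) ∧
      (∀ a ∈ Subgroup.closure (gens H r), ∀ b ∈ Subgroup.closure (gens H r), a * b = b * a) ∧
      ¬ r ∣ Nat.card (Subgroup.closure (gens H r)) ∧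
      ∀ p : ℕ, p.Prime → p ∣ (Subgroup.closure (gens H r)).relIndex H → p = r := by
  have hcomm := C.gens_comm hr hrH hmin
  have hab := comm_closure hcomm
  have hle : Subgroup.closure (gens H r) ≤ H := by
    rw [Subgroup.closure_le]
    exact fun x hx => hx.1
  refine ⟨hle, ?_, hab, ?_, ?_⟩
  · have key : ∀ h ∈ H, ∀ a ∈ Subgroup.closure (gens H r), h * a * h⁻¹ ∈ Subgroup.closure (gens H r) := by
      intro h hh a ha
      have h1 : Subgroup.closure (gens H r) ≤ (Subgroup.closure (gens H r)).comap (MulAut.conj h).toMonoidHom := by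
        refine (Subgroup.closure_le _).mpr ?_
        rintro x ⟨hxH, t, ht, htH, htr, k, hk⟩
        refine Subgroup.subset_closure ⟨H.mul_mem (H.mul_mem hh hxH) (H.inv_mem hh), t, ht, htH, htr, k, ?_⟩
        show (h * x * h⁻¹) ^ t ^ k = 1
        rw [conj_pow, hk, mul_one, mul_inv_cancel]
      exact h1 ha
    intro h hh
    rw [Subgroup.mem_normalizer_iff]
    intro y
    refine ⟨fun hy => key h hh y hy, fun hy => ?_⟩
    have h3 := key h⁻¹ (H.inv_mem hh) _ hy
    have h4 : h⁻¹ * (h * y * h⁻¹) * h⁻¹⁻¹ = y := by group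
    rwa [h4] at h3
  · intro hd
    have := Fact.mk hr
    obtain ⟨⟨x, hx⟩, hox⟩ := exists_prime_orderOf_dvd_card' r hd
    have h1 : ∀ y ∈ Subgroup.closure (gens H r), ∃ n : ℕ, Nat.Coprime r n ∧ y ^ n = 1 := by
      intro y hy
      induction hy using Subgroup.closure_induction with
      | mem y hy =>
        obtain ⟨-, t, ht, -, htr, k, hk⟩ := hy
        exact ⟨t ^ k, Nat.Coprime.pow_right k ((Nat.coprime_primes hr ht).mpr (Ne.symm htr)), hk⟩
      | one => exact ⟨1, Nat.coprime_one_right r, one_pow 1⟩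
      | mul y z hy hz ihy ihz =>
        obtain ⟨n, hn, hyn⟩ := ihy
        obtain ⟨l, hl, hzl⟩ := ihz
        have hc : Commute y z := hab y hy z hz
        refine ⟨n * l, Nat.Coprime.mul_right hn hl, ?_⟩
        rw [hc.mul_pow, pow_mul, hyn, one_pow, one_mul, mul_comm, pow_mul, hzl, one_pow]
      | inv y hy ih =>
        obtain ⟨n, hn, hyn⟩ := ih
        exact ⟨n, hn, by rw [inv_pow, hyn, inv_one]⟩
    obtain ⟨n, hn, hxn⟩ := h1 x hx
    rw [Subgroup.orderOf_mk] at hox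
    have h2 : r ∣ n := by rw [← hox]; exact orderOf_dvd_of_pow_eq_one hxn
    have h3 := (Nat.Prime.coprime_iff_not_dvd hr).mp hn
    exact h3 h2
  · intro p hp hd
    by_contra hpr
    have := Fact.mk hp
    have hpH : p ∣ Nat.card H := hd.trans (Subgroup.relIndex_dvd_card _ _)
    obtain ⟨Q⟩ : Nonempty (Sylow p H) := inferInstance
    have h1 : (Q : Subgroup H) ≤ (Subgroup.closure (gens H r)).subgroupOf H := by
      intro x hx
      obtain ⟨k, hk⟩ := Q.2 ⟨x, hx⟩
      refine Subgroup.subset_closure ⟨x.2, p, hp, hpH, hpr, k, ?_⟩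
      exact congrArg (fun y : Q => ((y : H) : Y)) hk
    have h2 : (Subgroup.closure (gens H r)).relIndex H ∣ (Q : Subgroup H).index := Subgroup.index_dvd_of_le h1
    exact Q.not_dvd_index (hd.trans h2)

end

section final

variable {F : Type*} [Field F] {V : Type*} [AddCommGroup V] [Module F V] {Y : Type*} [Group Y]
  {ρ : Representation F Y V} [FiniteDimensional F V] [Finite Y] {e : ℕ → ℕ} {X H : Subgroup Y} {π : Set ℕ}

/-- the context from a Hall subgroup -/
theorem Cx.of_hall (D : LinDat ρ e X) (h2 : 2 ∉ π) (hπ : ∀ r ∈ π, r.Prime → (r : F) ≠ 0) (hH : IsPiHall π H)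
    (hdom : Cfsg.Agent.H380.RV.DomX π X H) : Cx ρ e X H := by
  have hodd : Odd (Nat.card H) := Cfsg.Agent.H380.RV.odd_of_piN h2 hH.1
  refine ⟨D, ⟨S0205.result hodd, fun r hr hd => ⟨?_, hπ r (hH.1 r hr hd) hr⟩⟩, fun t ht hd => hH.2 t ht (hH.1 t ht hd),
    fun u v hu hv huH hvH z hz b hb hzb hzu hbv => ?_⟩
  · rintro rfl
    exact h2 (hH.1 2 hr hd)
  · have hS : ∀ x ∈ ({z, b} : Set Y), ∀ y ∈ ({z, b} : Set Y), x * y = y * x := by
      intro x hx y hy
      simp only [Set.mem_insert_iff, Set.mem_singleton_iff] at hx hy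
      rcases hx with rfl | rfl <;> rcases hy with rfl | rfl
      · rfl
      · exact hzb
      · exact hzb.symm
      · rfl
    have hexp : ∀ x ∈ Subgroup.closure {z, b}, x ^ (u * v) = 1 := pow_closure hS (by
      intro x hx
      simp only [Set.mem_insert_iff, Set.mem_singleton_iff] at hx
      rcases hx with rfl | rfl
      · rw [pow_mul, hzu, one_pow]
      · rw [mul_comm, pow_mul, hbv, one_pow])
    have hKX : Subgroup.closure {z, b} ≤ X := by
      rw [Subgroup.closure_le]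
      intro x hx
      simp only [Set.mem_insert_iff, Set.mem_singleton_iff] at hx
      rcases hx with rfl | rfl
      · exact hz
      · exact hb
    obtain ⟨x, -, hxK⟩ := hdom (Subgroup.closure {z, b}) hKX (by
      intro p hp hd
      have := Fact.mk hp
      obtain ⟨⟨y, hy⟩, hoy⟩ := exists_prime_orderOf_dvd_card' p hd
      rw [Subgroup.orderOf_mk] at hoy
      have h1 : p ∣ u * v := by rw [← hoy]; exact orderOf_dvd_of_pow_eq_one (hexp y hy)
      rcases (Nat.Prime.dvd_mul hp).mp h1 with h | h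
      · rw [(Nat.prime_dvd_prime_iff_eq hp hu).mp h]; exact hH.1 u hu huH
      · rw [(Nat.prime_dvd_prime_iff_eq hp hv).mp h]; exact hH.1 v hv hvH)
    have h1 : ∀ y ∈ Subgroup.closure {z, b}, x⁻¹ * y * x⁻¹⁻¹ ∈ H := by
      intro y hy
      have h2 := hxK hy
      rw [Subgroup.mem_pointwise_smul_iff_inv_smul_mem, ← map_inv] at h2
      exact h2
    exact ⟨x⁻¹, h1 z (Subgroup.subset_closure (by simp)), h1 b (Subgroup.subset_closure (by simp))⟩

/-- the conclusion -/
theorem fh_of_cx (C : Cx ρ e X H) : Cfsg.Agent.H380.RV.FH H := by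
  by_cases h1 : Nat.card H = 1
  · refine ⟨2, Nat.prime_two, ⊥, bot_le, ?_, ?_, ?_, ?_⟩
    · intro h _
      rw [Subgroup.mem_normalizer_iff]
      intro y
      show y ∈ (⊥ : Subgroup Y) ↔ _ ∈ (⊥ : Subgroup Y)
      rw [Subgroup.mem_bot, Subgroup.mem_bot, conj_eq_one_iff]
    · intro a ha b hb
      rw [Subgroup.mem_bot] at ha hb
      rw [ha, hb]
    · rw [Subgroup.card_bot]; decide
    · intro p hp hd
      rw [Subgroup.relIndex_bot_left, h1] at hd
      exact absurd (Nat.dvd_one.mp hd) hp.one_lt.ne'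
  · have hr := Nat.minFac_prime h1
    obtain ⟨h3, h4, h5, h6, h7⟩ := C.structure_min hr (Nat.minFac_dvd _) fun t ht hd => Nat.minFac_le_of_dvd ht.two_le hd
    exact ⟨_, hr, _, h3, h4, h5, h6, h7⟩

/-- **the abstract theorem** -/
theorem absLin (π : Set ℕ) : Cfsg.Agent.H380.RV.AbsLin π := by
  intro F _ _ n Y _ _ ρ e X D h2 hπ H hH hdom
  exact fh_of_cx (Cx.of_hall D h2 hπ hH hdom)

universe u

/-- **R2, linear groups** -/
theorem rowR2_psl {π : Set ℕ} {S : Type u} [Group S] [Finite S] [IsSimpleGroup S] {p : ℕ} (hpπ : p ∉ π) (h2 : 2 ∉ π)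
    (h : IsPSLChar p S) (hD : Dom π S) : FHall π S :=
  Cfsg.Agent.H380.RV.fhall_pslChar (absLin π) h2 hpπ h hD

/-- **R2, unitary groups** -/
theorem rowR2_psu {π : Set ℕ} {S : Type u} [Group S] [Finite S] [IsSimpleGroup S] {p : ℕ} (hpπ : p ∉ π) (h2 : 2 ∉ π)
    (h : IsPSUChar p S) (hD : Dom π S) : FHall π S :=
  Cfsg.Agent.H380.RV.fhall_psuChar (absLin π) h2 hpπ h hD

end final

end Cfsg.Agent.H553.RV
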