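import Cfsg.Agent.H553.RV.LinFr

/-!
# TEAM RV, R2 linear/unitary: frames and small elements of `H` (helper553)
-/

set_option autoImplicit false

namespace Cfsg.Agent.H553.RV

open Module Cfsg.Agent.H167.OP Cfsg.Agent.H170.HL Cfsg.Agent.H556.HallRowAbs Cfsg.Agent.H556.HallLB
  Cfsg.Agent.H556.HallSmallCen

section group

variable {Y : Type*} [Group Y]

theorem comm_closure {S : Set Y} (h : ∀ x ∈ S, ∀ y ∈ S, x * y = y * x) :
    ∀ x ∈ Subgroup.closure S, ∀ y ∈ Subgroup.closure S, x * y = y * x := by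
  intro x hx y hy
  have h1 : Subgroup.closure S ≤ Subgroup.centralizer S := by
    rw [Subgroup.closure_le]
    intro a ha
    exact Subgroup.mem_centralizer_iff.mpr fun b hb => h b hb a ha
  have h2 : x ∈ Subgroup.centralizer (Subgroup.closure S : Set Y) := by
    rw [Subgroup.centralizer_closure]
    exact h1 hx
  exact (Subgroup.mem_centralizer_iff.mp h2 y hy).symm

theorem pow_closure {S : Set Y} (h : ∀ x ∈ S, ∀ y ∈ S, x * y = y * x) {n : ℕ} (hS : ∀ x ∈ S, x ^ n = 1) :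
    ∀ x ∈ Subgroup.closure S, x ^ n = 1 := by
  intro x hx
  induction hx using Subgroup.closure_induction with
  | mem x hx => exact hS x hx
  | one => exact one_pow n
  | mul x y hx hy ihx ihy =>
    have h1 : Commute x y := comm_closure h x hx y hy
    rw [h1.mul_pow, ihx, ihy, one_mul]
  | inv x hx ih => rw [inv_pow, ih, inv_one]

/-- conjugating a `t`-subgroup into a subgroup of index prime to `t` -/
theorem conj_into [Finite Y] {t : ℕ} (ht : t.Prime) {Q K : Subgroup Y} (hQ : IsPGroup t Q) (hK : ¬ t ∣ K.index) :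
    ∃ g : Y, ∀ q ∈ Q, g * q * g⁻¹ ∈ K := by
  have := Fact.mk ht
  obtain ⟨x, hx⟩ := hQ.nonempty_fixed_point_of_prime_not_dvd_card (Y ⧸ K) hK
  obtain ⟨g, rfl⟩ := QuotientGroup.mk_surjective x
  refine ⟨g⁻¹, fun q hq => ?_⟩
  have h2 : ((q * g : Y) : Y ⧸ K) = (g : Y ⧸ K) := hx ⟨q, hq⟩
  have h3 := QuotientGroup.eq.mp h2.symm
  rw [inv_inv, mul_assoc]
  exact h3

/-- a nontrivial `t`-element has a power of order `t` -/
theorem exists_pow_prime {t : ℕ} {x : Y} (hx1 : x ≠ 1) (hx : ∃ k : ℕ, x ^ t ^ k = 1) :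
    ∃ n : ℕ, x ^ n ≠ 1 ∧ (x ^ n) ^ t = 1 := by
  obtain ⟨k, hk⟩ := hx
  induction k with
  | zero => rw [pow_zero, pow_one] at hk; exact absurd hk hx1
  | succ k ih =>
    by_cases h : x ^ t ^ k = 1
    · exact ih h
    · exact ⟨t ^ k, h, by rw [← pow_mul, ← pow_succ]; exact hk⟩

end group

variable {F : Type*} [Field F] {V : Type*} [AddCommGroup V] [Module F V] {Y : Type*} [Group Y]
  {ρ : Representation F Y V}

theorem Rg_pow_le (x : Y) (n : ℕ) : Rg ρ (x ^ n) ≤ Rg ρ x := by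
  intro w hw
  obtain ⟨v, rfl⟩ := mem_Rg.mp hw
  induction n with
  | zero => rw [pow_zero, one_ap, sub_self]; exact Submodule.zero_mem _
  | succ n ih =>
    have h1 : ρ (x ^ (n + 1)) v - v = (ρ x (ρ (x ^ n) v) - ρ (x ^ n) v) + (ρ (x ^ n) v - v) := by
      rw [pow_succ', mul_ap]; abel
    rw [h1]
    exact Submodule.add_mem _ (sub_mem_Rg _ _) (ih ⟨v, rfl⟩)

theorem Rg_mul_le (x y : Y) : Rg ρ (x * y) ≤ Rg ρ x ⊔ Rg ρ y := by
  intro w hw
  obtain ⟨v, rfl⟩ := mem_Rg.mp hw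
  have h1 : ρ (x * y) v - v = (ρ x (ρ y v) - ρ y v) + (ρ y v - v) := by
    rw [mul_ap]; abel
  rw [h1]
  exact Submodule.add_mem_sup (sub_mem_Rg _ _) (sub_mem_Rg _ _)

/-- `t`-elements of small support are trivial -/
theorem eq_one_of_small [FiniteDimensional F V] [Finite Y] {e : ℕ → ℕ} (h : RowDat ρ e) {t : ℕ} (ht : t.Prime)
    (hodd : Odd t) (htF : (t : F) ≠ 0) {x : Y} (hx : ∃ k : ℕ, x ^ t ^ k = 1) (hr : rk ρ x < e t) : x = 1 := by
  by_contra hx1
  obtain ⟨n, hn1, hn⟩ := exists_pow_prime hx1 hx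
  have h1 := le_rk_of_ne h ht hodd htF hn hn1
  have h2 : rk ρ (x ^ n) ≤ rk ρ x := Submodule.finrank_mono (Rg_pow_le x n)
  omega

/-- a frame in `K` -/
structure Fm (ρ : Representation F Y V) (e : ℕ → ℕ) (K : Subgroup Y) (t m : ℕ) (z : Fin m → Y) : Prop where
  mem : ∀ i, z i ∈ K
  isZ : ∀ i, IsZ ρ e t (z i)
  comm : ∀ i j, z i * z j = z j * z i
  ind : ∀ i j, i ≠ j → ∀ v, ρ (z i) (ρ (z j) v - v) = ρ (z j) v - v
  max : ∀ U : Submodule F V, (∀ i, ∀ v ∈ U, ρ (z i) v = v) → finrank F U < e t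
  perm : ∀ σ : Equiv.Perm (Fin m), ∃ y : Y, ∀ i, y * z i * y⁻¹ = z (σ i)

/-- existence of frames -/
theorem exists_frame [FiniteDimensional F V] [Finite Y] {e : ℕ → ℕ} {X : Subgroup Y} (D : LinDat ρ e X) {t : ℕ}
    (ht : t.Prime) (hodd : Odd t) (htF : (t : F) ≠ 0) (htY : t ∣ Nat.card Y) {K : Subgroup Y} (hK : ¬ t ∣ K.index) :
    ∃ (m : ℕ) (z : Fin m → Y), Fm ρ e K t m z := by
  obtain ⟨m, z, hz, hc, hi, hm, hp⟩ := D.fr t ht hodd htF htY
  have hS : ∀ x ∈ Set.range z, ∀ y ∈ Set.range z, x * y = y * x := by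
    rintro _ ⟨i, rfl⟩ _ ⟨j, rfl⟩
    exact hc i j
  have hQ : IsPGroup t (Subgroup.closure (Set.range z)) := by
    intro x
    refine ⟨1, Subtype.ext ?_⟩
    rw [pow_one]
    refine pow_closure hS ?_ x x.2
    rintro _ ⟨i, rfl⟩
    exact (hz i).1
  obtain ⟨g, hg⟩ := conj_into ht hQ hK
  refine ⟨m, fun i => g * z i * g⁻¹, ⟨fun i => hg _ (Subgroup.subset_closure ⟨i, rfl⟩), fun i => (hz i).conj g,
    fun i j => ?_, fun i j hij v => ?_, fun U hU => ?_, fun σ => ?_⟩⟩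
  · have h1 : g * z i * g⁻¹ * (g * z j * g⁻¹) = g * (z i * z j) * g⁻¹ := by group
    have h2 : g * z j * g⁻¹ * (g * z i * g⁻¹) = g * (z j * z i) * g⁻¹ := by group
    rw [h1, h2, hc i j]
  · have h1 : ρ (g * z j * g⁻¹) v - v = ρ g (ρ (z j) (ρ g⁻¹ v) - ρ g⁻¹ v) := by
      rw [map_sub, ap_inv, mul_ap, mul_ap]
    rw [h1, mul_ap, mul_ap, inv_ap, hi i j hij]
  · have h1 := hm (U.map (ρ g⁻¹)) (by
      rintro i _ ⟨v, hv, rfl⟩
      have h2 := hU i v hv
      rw [mul_ap, mul_ap] at h2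
      have h3 := congrArg (ρ g⁻¹) h2
      rwa [inv_ap] at h3)
    have h2 : finrank F (U.map (ρ g⁻¹)) = finrank F U := by
      refine (LinearEquiv.finrank_eq (U.equivMapOfInjective (ρ g⁻¹) ?_)).symm
      intro v w h
      have := congrArg (ρ g) h
      rwa [ap_inv, ap_inv] at this
    rwa [h2] at h1
  · obtain ⟨y, hy⟩ := hp σ
    refine ⟨g * y * g⁻¹, fun i => ?_⟩
    rw [← hy i]
    group

/-- **Lemma C** -/
theorem e_le_of_comm [FiniteDimensional F V] [Finite Y] {e : ℕ → ℕ} {X : Subgroup Y} (D : LinDat ρ e X) {u v : ℕ}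
    (huF : (u : F) ≠ 0) (hv : v.Prime) (hvo : Odd v) (hvF : (v : F) ≠ 0)
    {m : ℕ} {z : Fin m → Y} {K : Subgroup Y} (hz : Fm ρ e K u m z) {a : Y}
    (ha : IsZ ρ e v a) (hc : ∀ i, z i * a = a * z i) : e v ≤ e u := by
  by_contra hlt
  push Not at hlt
  have h1 : ¬ ∀ i, ∀ w ∈ Rg ρ a, ρ (z i) w = w := by
    intro h
    have := hz.max (Rg ρ a) h
    rw [finrank_Rg, ha.2] at this
    omega
  push Not at h1
  obtain ⟨i, w, hw, hwi⟩ := h1
  rcases dicho D hv hvo hvF ha (hc i).symm huF (hz.isZ i).1 with h | h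
  · exact hwi (h w hw)
  · have h2 : Rg ρ a ≤ Rg ρ (z i) := le_Rg_of_free (fun w hw => comm_Rg (hc i).symm hw) h
    have h3 := Submodule.finrank_mono h2
    rw [finrank_Rg, finrank_Rg, ha.2, (hz.isZ i).2] at h3
    omega

/-- the subgroup `H` has good order and is solvable -/
structure HC (F : Type*) [Field F] {Y : Type*} [Group Y] (H : Subgroup Y) : Prop where
  sol : Group.IsSolvable H
  ok : ∀ r : ℕ, r.Prime → r ∣ Nat.card H → r ≠ 2 ∧ (r : F) ≠ 0

theorem HC.mono {H K : Subgroup Y} (h : HC F H) (hK : K ≤ H) : HC F K :=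
  ⟨by
    have := h.sol
    exact Group.isSolvable_of_isSolvable_injective (f := Subgroup.inclusion hK) (Subgroup.inclusion_injective hK),
   fun r hr hd => h.ok r hr (hd.trans (Subgroup.card_dvd_of_le hK))⟩

theorem HC.card_ne [Finite Y] {H : Subgroup Y} (h : HC F H) {K : Subgroup Y} (hK : K ≤ H) :
    (Nat.card K : F) ≠ 0 := by
  have h1 : ∀ n : ℕ, n ≠ 0 → (∀ r : ℕ, r.Prime → r ∣ n → (r : F) ≠ 0) → (n : F) ≠ 0 := by
    intro n
    induction n using Nat.recOnMul with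
    | zero => intro h; exact absurd rfl h
    | one => intro _ _; rw [Nat.cast_one]; exact one_ne_zero
    | prime p hp => intro _ h; exact h p hp (dvd_refl _)
    | mul a b iha ihb =>
      intro hab hr
      rw [Nat.cast_mul]
      exact mul_ne_zero (iha (left_ne_zero_of_mul hab) fun r hr1 hd => hr r hr1 (hd.mul_right b))
        (ihb (right_ne_zero_of_mul hab) fun r hr1 hd => hr r hr1 (hd.mul_left a))
  exact h1 _ Nat.card_pos.ne' fun r hr hd => (h.ok r hr (hd.trans (Subgroup.card_dvd_of_le hK))).2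

/-- the small `t`-elements of `H` -/
def Sm (ρ : Representation F Y V) (H : Subgroup Y) (t : ℕ) : Set Y :=
  {x | x ∈ H ∧ (∃ k : ℕ, x ^ t ^ k = 1) ∧ 2 * rk ρ x < t}

theorem cardNeOfPow {t k : ℕ} (htF : (t : F) ≠ 0) : ((t ^ k : ℕ) : F) ≠ 0 := by
  rw [Nat.cast_pow]; exact pow_ne_zero k htF

theorem small_comm [FiniteDimensional F V] [Finite Y] (hinj : Function.Injective ρ) {H : Subgroup Y} (hH : HC F H)
    {t : ℕ} (ht : t.Prime) (htF : (t : F) ≠ 0) {x y : Y} (hx : x ∈ Sm ρ H t) (hy : y ∈ Sm ρ H t) : x * y = y * x := by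
  have := Fact.mk ht
  set L : Subgroup Y := Subgroup.closure {x, y} with hL
  have hxL : x ∈ L := Subgroup.subset_closure (by simp)
  have hyL : y ∈ L := Subgroup.subset_closure (by simp)
  have hLH : L ≤ H := by
    rw [hL, Subgroup.closure_le]
    intro a ha
    simp only [Set.mem_insert_iff, Set.mem_singleton_iff] at ha
    rcases ha with rfl | rfl
    · exact hx.1
    · exact hy.1
  have hLc := hH.mono hLH
  have hdim : finrank F (CV ρ L) < t := by
    have h1 : CV ρ L ≤ Rg ρ x ⊔ Rg ρ y := by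
      rw [hL]
      refine CV_closure_le ?_
      intro a ha
      simp only [Set.mem_insert_iff, Set.mem_singleton_iff] at ha
      rcases ha with rfl | rfl
      · exact le_sup_left
      · exact le_sup_right
    have h2 := (Submodule.finrank_mono h1).trans (Submodule.finrank_add_le_finrank_add_finrank _ _)
    rw [finrank_Rg, finrank_Rg] at h2
    have h3 := hx.2.2
    have h4 := hy.2.2
    omega
  have hC : CenH t L := by
    intro y' hy' r hrp hrt R hR hn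
    by_cases hd : r ∣ Nat.card L
    · obtain ⟨h2, hrF⟩ := hLc.ok r hrp hd
      have h1 := small_cen ρ hinj ht hrp h2 hrt hrF L hdim y'.2 (by
        obtain ⟨k, hk⟩ := hy'
        exact ⟨k, congrArg Subtype.val hk⟩) (R := R.map L.subtype) (Subgroup.map_subtype_le _) (by
        rintro _ ⟨x, hx, rfl⟩
        obtain ⟨k, hk⟩ := hR ⟨x, hx⟩
        exact ⟨k, congrArg (fun z : R => ((z : L) : Y)) hk⟩) (by
        rintro _ ⟨x, hx, rfl⟩
        exact ⟨_, hn x hx, rfl⟩)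
      intro d hd
      exact Subtype.ext (h1 d ⟨d, hd, rfl⟩)
    · intro d hdR
      obtain ⟨k, hk⟩ := hR ⟨d, hdR⟩
      have h1 : d ^ r ^ k = 1 := congrArg Subtype.val hk
      have h5 : Nat.Coprime (r ^ k) (Nat.card L) := Nat.Coprime.pow_left _ ((Nat.Prime.coprime_iff_not_dvd hrp).mpr hd)
      have h6 : orderOf d ∣ 1 := by
        rw [← h5]
        exact Nat.dvd_gcd (orderOf_dvd_of_pow_eq_one h1) (orderOf_dvd_natCard d)
      rw [orderOf_eq_one_iff.mp (Nat.dvd_one.mp h6), mul_one, one_mul]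
  have hgen : Subgroup.closure {x : L | ∃ k : ℕ, x ^ t ^ k = 1} = ⊤ := by
    rw [eq_top_iff, ← Subgroup.closure_closure_coe_preimage (k := ({x, y} : Set Y))]
    apply Subgroup.closure_mono
    rintro ⟨a, ha⟩ ham
    have h' : a = x ∨ a = y := by
      rcases ham with h | h
      · exact Or.inl h
      · exact Or.inr h
    rcases h' with rfl | rfl
    · obtain ⟨k, hk⟩ := hx.2.1
      exact ⟨k, Subtype.ext hk⟩
    · obtain ⟨k, hk⟩ := hy.2.1
      exact ⟨k, Subtype.ext hk⟩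
  have hLp : IsPGroup t L := isPGroup_of_cenH hLc.sol hC hgen
  obtain ⟨n, hn⟩ := IsPGroup.iff_card.mp hLp
  have hLF : (Nat.card L : F) ≠ 0 := by rw [hn]; exact cardNeOfPow htF
  have h1 := Cfsg.Agent.H556.SmallAb.comm_of_small' (res ρ L) hLF (by
    intro r hr hd
    rw [hn] at hd
    rw [(Nat.prime_dvd_prime_iff_eq hr ht).mp (hr.dvd_of_dvd_pow hd)]
    exact hdim) ⟨x, hxL⟩ ⟨y, hyL⟩
  have hg : ρ (x * y * x⁻¹ * y⁻¹) = 1 := by
    have hgL : x * y * x⁻¹ * y⁻¹ ∈ L := L.mul_mem (L.mul_mem (L.mul_mem hxL hyL) (L.inv_mem hxL)) (L.inv_mem hyL)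
    refine eq_one_of_res ρ hgL (n := Nat.card L) ?_ hLF ?_
    · exact congrArg Subtype.val (pow_card_eq_one' (x := (⟨_, hgL⟩ : L)))
    · intro w hw
      have h2 : (⟨x * y * x⁻¹ * y⁻¹, hgL⟩ : L) = (⟨x, hxL⟩ * ⟨y, hyL⟩) * (⟨y, hyL⟩ * ⟨x, hxL⟩)⁻¹ := by
        apply Subtype.ext
        show x * y * x⁻¹ * y⁻¹ = (x * y) * (y * x)⁻¹
        group
      have h3 : res ρ L ⟨x * y * x⁻¹ * y⁻¹, hgL⟩ = 1 := by
        rw [h2, map_mul, h1, ← map_mul, mul_inv_cancel, map_one]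
      exact congrArg Subtype.val (LinearMap.congr_fun h3 ⟨w, hw⟩)
  have h2 : x * y * x⁻¹ * y⁻¹ = 1 := hinj (by rw [hg, map_one])
  calc x * y = (x * y * x⁻¹ * y⁻¹) * (y * x) := by group
    _ = y * x := by rw [h2, one_mul]

/-- the group `B_t` -/
def Bt (ρ : Representation F Y V) (H : Subgroup Y) (t : ℕ) : Subgroup Y := Subgroup.closure (Sm ρ H t)

theorem Bt_le (H : Subgroup Y) (t : ℕ) : Bt ρ H t ≤ H := by
  rw [Bt, Subgroup.closure_le]
  exact fun x hx => hx.1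

theorem Bt_comm [FiniteDimensional F V] [Finite Y] (hinj : Function.Injective ρ) {H : Subgroup Y} (hH : HC F H)
    {t : ℕ} (ht : t.Prime) (htF : (t : F) ≠ 0) : ∀ x ∈ Bt ρ H t, ∀ y ∈ Bt ρ H t, x * y = y * x :=
  comm_closure fun _ hx _ hy => small_comm hinj hH ht htF hx hy

theorem Bt_pgroup [FiniteDimensional F V] [Finite Y] (hinj : Function.Injective ρ) {H : Subgroup Y} (hH : HC F H)
    {t : ℕ} (ht : t.Prime) (htF : (t : F) ≠ 0) : ∀ x ∈ Bt ρ H t, ∃ k : ℕ, x ^ t ^ k = 1 := by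
  intro x hx
  have hx' : x ∈ Subgroup.closure (Sm ρ H t) := hx
  clear hx
  induction hx' using Subgroup.closure_induction with
  | mem x hx => exact hx.2.1
  | one => exact ⟨0, one_pow _⟩
  | mul x y hx hy ihx ihy =>
    obtain ⟨k, hk⟩ := ihx
    obtain ⟨l, hl⟩ := ihy
    have h1 : Commute x y := Bt_comm hinj hH ht htF x hx y hy
    refine ⟨k + l, ?_⟩
    rw [h1.mul_pow, pow_add, pow_mul, hk, one_pow, one_mul, mul_comm, pow_mul, hl, one_pow]
  | inv x hx ih =>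
    obtain ⟨k, hk⟩ := ih
    exact ⟨k, by rw [inv_pow, hk, inv_one]⟩

theorem Sm_conj [FiniteDimensional F V] {H : Subgroup Y} {t : ℕ} {x g : Y} (hx : x ∈ Sm ρ H t) (hg : g ∈ H) :
    g * x * g⁻¹ ∈ Sm ρ H t := by
  refine ⟨H.mul_mem (H.mul_mem hg hx.1) (H.inv_mem hg), ?_, by rw [rk_conj]; exact hx.2.2⟩
  obtain ⟨k, hk⟩ := hx.2.1
  exact ⟨k, by rw [conj_pow, hk, mul_one, mul_inv_cancel]⟩

theorem Bt_conj [FiniteDimensional F V] {H : Subgroup Y} {t : ℕ} {g : Y} (hg : g ∈ H) :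
    ∀ x ∈ Bt ρ H t, g * x * g⁻¹ ∈ Bt ρ H t := by
  intro x hx
  have h1 : Bt ρ H t ≤ (Bt ρ H t).comap (MulAut.conj g).toMonoidHom := by
    conv_lhs => rw [Bt]
    rw [Subgroup.closure_le]
    intro x hx
    exact Subgroup.subset_closure (Sm_conj hx hg)
  exact h1 hx

theorem IsZ.sm {e : ℕ → ℕ} {H : Subgroup Y} {t : ℕ} {z : Y} (h : IsZ ρ e t z) (hz : z ∈ H) (hg : 2 * e t < t) :
    z ∈ Sm ρ H t := ⟨hz, ⟨1, by rw [pow_one]; exact h.1⟩, by rw [h.2]; exact hg⟩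

/-- two atoms are equal or independent -/
theorem atom_or [FiniteDimensional F V] [Finite Y] {e : ℕ → ℕ} {X : Subgroup Y} (D : LinDat ρ e X) {t : ℕ}
    (ht : t.Prime) (hodd : Odd t) (htF : (t : F) ≠ 0) {a a' : Y} (ha : IsZ ρ e t a) (ha' : IsZ ρ e t a')
    (hc : a * a' = a' * a) : Rg ρ a = Rg ρ a' ∨ ∀ w ∈ Rg ρ a, ρ a' w = w := by
  rcases dicho D ht hodd htF ha hc htF ha'.1 with h | h
  · exact Or.inr h
  · left
    apply Submodule.eq_of_le_of_finrank_eq
    · exact le_Rg_of_free (fun w hw => comm_Rg hc hw) h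
    · rw [finrank_Rg, finrank_Rg, ha.2, ha'.2]

end Cfsg.Agent.H553.RV
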