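import Cfsg.Agent.H553.RV.E7Dat
import Cfsg.Agent.H553.RV.E7Num
import Cfsg.Agent.H169.NoMinE7

/-!
# TEAM RV, R2: `E₇(q)` has no Hall `{5, 7}`-subgroup, `5 ∣ q² + 1`, `7 ∤ q² - 1` (helper553)
-/

set_option autoImplicit false
set_option linter.unusedSectionVars false

namespace Cfsg.Agent.H553.RV.E7B

open CoxeterSystem Cfsg Cfsg.Lie Cfsg.Lie.ChevalleyDatum
open Cfsg.Agent.ChevalleyStructure Cfsg.Agent.ChevalleyStructure.Elts Cfsg.Agent.ChevalleyStructure.CoxeterGeom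
  Cfsg.Agent.ChevalleyStructure.CoxeterGeomTypes Cfsg.Agent.ChevalleyStructure.NPerm
open Cfsg.Agent.Tits.Roots Cfsg.Agent.Tits.Core Cfsg.Agent.Nodes Cfsg.Agent.Nodes.Reps Cfsg.Agent.Nodes.BNOf
  Cfsg.Agent.Nodes.RGDChev Cfsg.Agent.Nodes.Bruhat
open Cfsg.Agent.KFacts.RgdField Cfsg.Agent.KFacts.RgdChevCoord Cfsg.Agent.BpExc.TorCent Cfsg.Agent.BpExc.TorChev
open Cfsg.Agent.GpExc.Field Cfsg.Agent.BpExc.Tow Cfsg.Agent.BpExc.TowChev Cfsg.Agent.BpExc.Fr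
  Cfsg.Agent.BpExc.LangFr Cfsg.Agent.H129.TorusChar Cfsg.Agent.H129.TorusMain Cfsg.Agent.H123.ExcZ
open Cfsg.Agent.BpExc Cfsg.Agent.H795.LangT Cfsg.Agent.H795.Core Cfsg.Agent.H795.NotAbT
open Cfsg.Agent.H572.ExcA Cfsg.Agent.H572.ExcB Cfsg.Agent.H572.ExcC Cfsg.Agent.H572.ExcD Cfsg.Agent.H572.LatQ
  Cfsg.Agent.H572.LatForm Cfsg.Agent.H572.ExcE Cfsg.Agent.H572.ExcF
open Cfsg.Agent.H988.CPi Cfsg.Agent.H571.RV Cfsg.Agent.H553.OddHall Cfsg.Agent.H565.CharCnt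
open Cfsg.Agent.BpExc.RowsUntw Cfsg.Agent.H720.TwFr Cfsg.Agent.H795.NotAbRows Cfsg.Agent.H167.RV Cfsg.Agent.H167.EX
open Cfsg.Agent.H795.NotAbData Cfsg.Agent.H795.NotAbCert
open Cfsg.Agent.H565.NM
open Subgroup

universe u v

section Gen

variable {hp : IsType chevE7 7 CoxeterMatrix.E₇}
  {k : Type u} [Field k] [IsAlgClosed k] {r e : ℕ} [Fact r.Prime] [CharP k r]
  {G : Type v} [Group G] {κ : G →* ↥(chevE7.group k)} {τ : MulAut ↥(chevE7.group k)}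
  {θ : (Fin 7 → ℤ) ≃+ (Fin 7 → ℤ)} {ε : ℤ}

/-- the action of the element of order three -/
noncomputable abbrev w7 (hp : IsType chevE7 7 CoxeterMatrix.E₇) (x : Fin 7 → ℤ) : Fin 7 → ℤ :=
  rep CoxeterMatrix.E₇.toCoxeterSystem hp.isCartan E7.c6 x

theorem char_w (h : Emb hp r e κ τ θ) (hε : ε = 1 ∨ ε = -1) (hθ : ∀ x, θ x = ε • w7 hp x) {t : ↥(chevE7.group k)}
    (ht : t ∈ TT chevE7 k) (hτ : τ t = t) (y : Fin 7 → ℤ) :
    cX hp t (w7 hp y) = cX hp t y ^ (ε * ((r ^ e : ℕ) : ℤ)) := by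
  have h1 := cX_sigma hp CoxeterMatrix.E₇.toCoxeterSystem h.frob h.fr ht y
  rw [hτ, hθ, (isMC_cX hp ht).zsmul] at h1
  rw [mul_comm, zpow_mul, zpow_natCast, ← h1, ← zpow_mul]
  rcases hε with rfl | rfl
  · rw [one_mul, zpow_one]
  · rw [show (-1 : ℤ) * -1 = 1 by norm_num, zpow_one]

/-- cube of `w7` -/
theorem w7_cube (x : Fin 7 → ℤ) : w7 hp (w7 hp (w7 hp x)) = x := by
  have h1 : IsMat hp (E7.c6 * E7.c6) (fun j m => ∑ n, U7 j n * U7 n m) :=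
    (E7.is_c6 hp).mul (E7.is_c6 hp) (fun j m => rfl)
  have h2 : IsMat hp (E7.c6 * E7.c6 * E7.c6) (fun j m => if j = m then 1 else 0) :=
    h1.mul (E7.is_c6 hp) (by decide +kernel)
  have h3 : E7.c6 * E7.c6 * E7.c6 = 1 := h2.eq_one (fun _ _ => rfl)
  unfold w7
  rw [← rep_mul_apply, ← rep_mul_apply, h3, map_one, Module.End.one_apply]

theorem zpow_one_of_cop {χ : k} (h0 : χ ≠ 0) {n : ℕ} {m : ℤ} (hn : χ ^ n = 1) (hm : χ ^ m = 1)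
    (hc : IsCoprime m (n : ℤ)) : χ = 1 := by
  obtain ⟨a, b, hab⟩ := hc
  have h1 : χ ^ (a * m + b * n) = 1 := by
    rw [zpow_add₀ h0, mul_comm a, zpow_mul, hm, one_zpow, one_mul, mul_comm b, zpow_mul, zpow_natCast, hn, one_zpow]
  rwa [hab, zpow_one] at h1

/-- **the toral elements of order prime to `Q³ - 1` are trivial** -/
theorem eq_one_of_cop (h : Emb hp r e κ τ θ) (hε : ε = 1 ∨ ε = -1) (hθ : ∀ x, θ x = ε • w7 hp x)
    {t : ↥(chevE7.group k)} (ht : t ∈ TT chevE7 k) (hτ : τ t = t) {n : ℕ} (hn : t ^ n = 1)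
    (hc : IsCoprime ((ε * ((r ^ e : ℕ) : ℤ)) ^ 3 - 1) (n : ℤ)) : t = 1 := by
  refine cX_inj hp ht (one_mem _) fun i => ?_
  rw [cX_one]
  have hne := (isMC_cX hp ht).ne_zero (sr i)
  have h1 : cX hp t (sr i) ^ n = 1 := by rw [← cX_pow hp ht, hn, cX_one]
  set Q : ℤ := ε * ((r ^ e : ℕ) : ℤ) with hQ
  have h2 : cX hp t (sr i) = cX hp t (sr i) ^ Q ^ 3 := by
    conv_lhs => rw [← w7_cube (hp := hp) (sr i)]
    rw [char_w h hε hθ ht hτ, char_w h hε hθ ht hτ, char_w h hε hθ ht hτ, ← zpow_mul, ← zpow_mul]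
    congr 1
    ring
  have h3 : cX hp t (sr i) ^ (Q ^ 3 - 1) = 1 := by
    rw [zpow_sub₀ hne, zpow_one, ← h2, div_self hne]
  exact zpow_one_of_cop hne h1 h3 hc

theorem ac_eq (w : CoxeterMatrix.E₇.Group) (y : Fin 7 → ℤ) :
    ac hp w y = rep CoxeterMatrix.E₇.toCoxeterSystem hp.isCartan w y := rfl

/-- `w` commutes with `θ` -/
theorem c6_mem (hθ : ∀ x, θ x = ε • w7 hp x) : E7.c6 ∈ CT hp θ := by
  intro x
  rw [hθ, hθ, map_zsmul, ac_eq, ac_eq]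

/-- **the toral elements of order prime to `Q - 1`, `Q` lie in the image** -/
theorem mem_range (hk : LocFin k) (h : Emb hp r e κ τ θ) {d : ℕ} {Bi : Fin 7 → Fin 7 → ℤ}
    (hB : InvC chevE7 7 d Bi) (hd : d ≠ 0) (hε : ε = 1 ∨ ε = -1) (hθ : ∀ x, θ x = ε • w7 hp x)
    (hcm : ∀ a b, τ a = a → τ b = b → ∃ x, κ x = a * b * a⁻¹ * b⁻¹)
    {t : ↥(chevE7.group k)} (ht : t ∈ TT chevE7 k) (hτ : τ t = t) {n : ℕ} (hn : t ^ n = 1)
    (hc : IsCoprime (ε * ((r ^ e : ℕ) : ℤ) - 1) (n : ℤ)) : ∃ x, κ x = t := by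
  set Q : ℤ := ε * ((r ^ e : ℕ) : ℤ) with hQ
  obtain ⟨m, hm, hτm⟩ := exists_fixed (hk := hk) h hB hd (c6_mem hθ)
  obtain ⟨x, hx⟩ := hcm t m hτ hτm
  have ht' : m * t * m⁻¹ ∈ TT chevE7 k := hm.conj_mem ht
  have hκ : κ x = t * (m * t * m⁻¹)⁻¹ := by rw [hx]; group
  have h1 : ∀ (z : ↥(chevE7.group k)) (hz : z ∈ TT chevE7 k) (j : ℤ) (y : Fin 7 → ℤ),
      cX hp (z ^ j) y = cX hp z y ^ j := by
    intro z hz j y
    obtain ⟨i, rfl | rfl⟩ := Int.eq_nat_or_neg j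
    · rw [zpow_natCast, zpow_natCast, cX_pow hp hz]
    · rw [zpow_neg, zpow_natCast, zpow_neg, zpow_natCast]
      have h2 := cX_mul hp (inv_mem (pow_mem hz i)) (pow_mem hz i) y
      rw [inv_mul_cancel, cX_one, cX_pow hp hz] at h2
      exact eq_inv_of_mul_eq_one_left h2.symm
  have h2 : (m * t * m⁻¹) ^ Q = t := by
    refine cX_inj hp (zpow_mem ht' Q) ht fun i => ?_
    obtain ⟨y, hy⟩ : ∃ y, w7 hp y = sr i := ⟨w7 hp (w7 hp (sr i)), w7_cube _⟩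
    rw [h1 _ ht', ← hy, hm.char ht, char_w h hε hθ ht hτ]
  have hcomm : Commute t (m * t * m⁻¹)⁻¹ := TT_comm hp _ ht _ (inv_mem ht')
  have h3 : κ x ^ Q = t ^ (Q - 1) := by
    rw [hκ, hcomm.mul_zpow, inv_zpow, h2, zpow_sub, zpow_one]
  obtain ⟨a, b, hab⟩ := hc
  refine ⟨x ^ (Q * a), ?_⟩
  rw [map_zpow, zpow_mul, h3, ← zpow_mul]
  have h4 : t ^ ((Q - 1) * a) = t ^ (a * (Q - 1) + b * n) := by
    rw [zpow_add, mul_comm b, zpow_mul t (n : ℤ), zpow_natCast, hn, one_zpow, mul_one, mul_comm]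
  rw [h4, hab, zpow_one]

end Gen

end Cfsg.Agent.H553.RV.E7B
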