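import Cfsg.Agent.H167.RV.TorD

/-!
# TEAM RV, R2: functionals for the torus `(q² + q + 1)³ (q - 1)` of `E₇` (helper553)
-/

set_option autoImplicit false
set_option linter.unusedSectionVars false

namespace Cfsg.Agent.H553.RV.E7B

open CoxeterSystem Cfsg Cfsg.Lie Cfsg.Lie.ChevalleyDatum
open Cfsg.Agent.ChevalleyStructure Cfsg.Agent.ChevalleyStructure.Elts Cfsg.Agent.ChevalleyStructure.CoxeterGeom
  Cfsg.Agent.ChevalleyStructure.CoxeterGeomTypes Cfsg.Agent.ChevalleyStructure.NPerm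
open Cfsg.Agent.Tits.Roots Cfsg.Agent.Tits.Core Cfsg.Agent.Nodes Cfsg.Agent.Nodes.Reps Cfsg.Agent.Nodes.BNOf
  Cfsg.Agent.Nodes.RGDChev Cfsg.Agent.Nodes.Bruhat
open Cfsg.Agent.KFacts.RgdField Cfsg.Agent.KFacts.RgdChevCoord Cfsg.Agent.BpExc.TorCent Cfsg.Agent.BpExc.TorChev
open Cfsg.Agent.GpExc.Field Cfsg.Agent.BpExc.Tow Cfsg.Agent.BpExc.TowChev Cfsg.Agent.BpExc.Fr
  Cfsg.Agent.BpExc.LangFr Cfsg.Agent.H129.TorusChar Cfsg.Agent.H129.TorusMain Cfsg.Agent.H123.ExcZ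
open Cfsg.Agent.BpExc Cfsg.Agent.H795.LangT Cfsg.Agent.H795.Core Cfsg.Agent.H795.NotAbT
open Cfsg.Agent.H572.ExcA Cfsg.Agent.H572.ExcB Cfsg.Agent.H572.ExcC Cfsg.Agent.H572.ExcD Cfsg.Agent.H572.LatQ
  Cfsg.Agent.H572.LatForm Cfsg.Agent.H572.ExcE Cfsg.Agent.H572.ExcF
open Cfsg.Agent.BpExc.RowsUntw Cfsg.Agent.H720.TwFr Cfsg.Agent.H795.NotAbRows
open Cfsg.Agent.H795.NotAbData (E7.c6M)

abbrev U7 : Fin 7 → Fin 7 → ℤ := Cfsg.Agent.H795.NotAbData.E7.c6M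

/-- the vectors `u_j` -/
def uu : Fin 3 → Fin 7 → ℤ := ![![-1, 0, 0, 0, 0, 0, 0], ![0, 0, -1, 0, 0, 0, 0], ![0, 0, 0, -1, 0, 0, 0]]

/-- the dual vectors `y_k` -/
def yy : Fin 3 → Fin 7 → ℤ := ![![0, -1, 0, 0, 0, -1, -1], ![0, 0, 0, 0, 0, 1, -1], ![0, -1, 0, 0, -1, 0, 0]]

/-- `U u_j` -/
def vv : Fin 3 → Fin 7 → ℤ := ![![0, -1, 0, 0, 1, 0, 0], ![-1, -1, 0, 0, 1, 1, 0], ![-1, -2, -1, 1, 1, 1, 1]]

/-- the functionals -/
def cf (Q : ℤ) (j : Fin 3) (i : Fin 7) : ℤ := vv j i + (1 + Q) * uu j i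

theorem vv_eq : ∀ j i, vv j i = ∑ m, U7 i m * uu j m := by decide +kernel

theorem U_vv : ∀ j i, ∑ m, U7 i m * vv j m = - vv j i - uu j i := by decide +kernel

/-- the functionals are eigenvectors -/
theorem cf_w {hp : IsType chevE7 7 CoxeterMatrix.E₇} (Q : ℤ) (j : Fin 3) (x : Fin 7 → ℤ) :
    ∑ i, cf Q j i * (rep CoxeterMatrix.E₇.toCoxeterSystem hp.isCartan Cfsg.Agent.H795.NotAbData.E7.c6 x) i =
      Q * ∑ i, cf Q j i * x i - (Q ^ 2 + Q + 1) * ∑ i, uu j i * x i := by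
  have h1 : ∀ i, (rep CoxeterMatrix.E₇.toCoxeterSystem hp.isCartan Cfsg.Agent.H795.NotAbData.E7.c6 x) i =
      ∑ n, x n * U7 n i := fun i => (Cfsg.Agent.H795.NotAbData.E7.is_c6 hp).apply x i
  have h2 : ∑ i, cf Q j i * (∑ n, x n * U7 n i) = ∑ n, x n * ∑ i, U7 n i * cf Q j i := by
    simp only [Finset.mul_sum]
    rw [Finset.sum_comm]
    refine Finset.sum_congr rfl fun n _ => Finset.sum_congr rfl fun i _ => ?_
    ring
  have h3 : ∀ n, ∑ i, U7 n i * cf Q j i = Q * cf Q j n - (Q ^ 2 + Q + 1) * uu j n := by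
    intro n
    have h4 : ∑ i, U7 n i * cf Q j i = ∑ i, U7 n i * vv j i + (1 + Q) * ∑ i, U7 n i * uu j i := by
      rw [Finset.mul_sum, ← Finset.sum_add_distrib]
      refine Finset.sum_congr rfl fun i _ => ?_
      rw [cf]; ring
    rw [h4, U_vv, ← vv_eq, cf]
    ring
  simp only [h1]
  rw [h2]
  simp only [h3, mul_sub, Finset.sum_sub_distrib, Finset.mul_sum]
  congr 1
  · exact Finset.sum_congr rfl fun i _ => by ring
  · exact Finset.sum_congr rfl fun i _ => by ring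

theorem vv_yy : ∀ j k, ∑ i, vv j i * yy k i = if j = k then 1 else 0 := by decide +kernel

theorem uu_yy : ∀ j k, ∑ i, uu j i * yy k i = 0 := by decide +kernel

theorem cf_yy (Q : ℤ) (j k : Fin 3) : ∑ i, cf Q j i * yy k i = if j = k then 1 else 0 := by
  have h1 : ∑ i, cf Q j i * yy k i = ∑ i, vv j i * yy k i + (1 + Q) * ∑ i, uu j i * yy k i := by
    rw [Finset.mul_sum, ← Finset.sum_add_distrib]
    refine Finset.sum_congr rfl fun i _ => ?_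
    rw [cf]; ring
  rw [h1, vv_yy, uu_yy, mul_zero, add_zero]

set_option maxRecDepth 100000 in
theorem reg_two : ∀ b < chevE7.nroots, ∃ j, ¬ (7 : ℤ) ∣ ∑ i, cf 2 j i * vec chevE7 7 b i := by decide +kernel

set_option maxRecDepth 100000 in
theorem reg_four : ∀ b < chevE7.nroots, ∃ j, ¬ (7 : ℤ) ∣ ∑ i, cf 4 j i * vec chevE7 7 b i := by decide +kernel

theorem cf_sub (Q Q' : ℤ) (j : Fin 3) (x : Fin 7 → ℤ) :
    ∑ i, cf Q j i * x i - ∑ i, cf Q' j i * x i = (Q - Q') * ∑ i, uu j i * x i := by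
  rw [← Finset.sum_sub_distrib, Finset.mul_sum]
  refine Finset.sum_congr rfl fun i _ => ?_
  rw [cf, cf]; ring

/-- no root is killed modulo `7` -/
theorem reg {Q : ℤ} (hQ : (7 : ℤ) ∣ Q ^ 2 + Q + 1) : ∀ b < chevE7.nroots, ∃ j, ¬ (7 : ℤ) ∣ ∑ i, cf Q j i * vec chevE7 7 b i := by
  intro b hb
  have h1 : (7 : ℤ) ∣ Q - 2 ∨ (7 : ℤ) ∣ Q - 4 := by
    have hp7 : Prime (7 : ℤ) := by exact_mod_cast Nat.prime_iff_prime_int.1 (by norm_num : Nat.Prime 7)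
    apply hp7.dvd_or_dvd
    have h2 : (Q - 2) * (Q - 4) = (Q ^ 2 + Q + 1) - 7 * (Q - 1) := by ring
    rw [h2]
    exact dvd_sub hQ (dvd_mul_right _ _)
  rcases h1 with h1 | h1
  · obtain ⟨j, hj⟩ := reg_two b hb
    refine ⟨j, fun h => hj ?_⟩
    have h2 := cf_sub Q 2 j (vec chevE7 7 b)
    have h3 := dvd_sub h (h1.mul_right (∑ i, uu j i * vec chevE7 7 b i))
    rw [← h2, sub_sub_cancel] at h3
    exact h3
  · obtain ⟨j, hj⟩ := reg_four b hb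
    refine ⟨j, fun h => hj ?_⟩
    have h2 := cf_sub Q 4 j (vec chevE7 7 b)
    have h3 := dvd_sub h (h1.mul_right (∑ i, uu j i * vec chevE7 7 b i))
    rw [← h2, sub_sub_cancel] at h3
    exact h3

def z2 : Fin 7 → Fin 7 → ℤ := ![![1, 3, 2, 3, 0, 0, 0], ![-1, -2, 2, -1, 0, 0, 0], ![2, -3, -1, 3, 0, 0, 0], ![0, 0, 0, 2, 0, 0, 0], ![1, 2, -2, 1, 0, 0, 0], ![-3, 1, -1, -3, 0, 0, 0], ![-3, 1, -1, -3, 0, 0, 0]]
def p2 : Fin 7 → Fin 7 → ℤ := ![![0, 0, 0, 0, -1, -1, -1], ![0, -1, 1, 0, 0, 0, 0], ![1, 0, 0, 2, 1, 1, 0], ![0, 0, 0, 1, 0, 0, 0], ![0, 1, -1, 0, 0, 0, 0], ![-1, 0, 0, -1, 0, 0, 0], ![-1, 0, 0, -1, 0, 0, 0]]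
def z4 : Fin 7 → Fin 7 → ℤ := ![![0, 1, 2, -2, 0, 0, 0], ![3, -2, 2, 3, 0, 0, 0], ![-3, 2, 3, -2, 0, 0, 0], ![0, 0, 0, -3, 0, 0, 0], ![-3, 2, -2, -3, 0, 0, 0], ![2, 1, -1, 2, 0, 0, 0], ![2, 1, -1, 2, 0, 0, 0]]
def p4 : Fin 7 → Fin 7 → ℤ := ![![0, -1, 1, -2, -1, -1, -1], ![2, -1, 1, 2, 0, 0, 0], ![-2, 0, 2, -2, -1, 0, -1], ![0, -1, 0, -2, -1, 0, 0], ![-2, 1, -1, -2, 0, 0, 0], ![1, 1, -1, 1, 0, 0, 0], ![1, 1, -1, 1, 0, 0, 0]]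

theorem cert_two : ∀ i m : Fin 7, (if i = m then (1 : ℤ) else 0) =
    ∑ k, cf 2 k i * yy k m + (∑ n, z2 i n * U7 n m - 2 * z2 i m) + 7 * p2 i m := by decide +kernel

theorem cert_four : ∀ i m : Fin 7, (if i = m then (1 : ℤ) else 0) =
    ∑ k, cf 4 k i * yy k m + (∑ n, z4 i n * U7 n m - 4 * z4 i m) + 7 * p4 i m := by decide +kernel

/-- the certificate for the rank -/
theorem cert {hp : IsType chevE7 7 CoxeterMatrix.E₇} {Q : ℤ} (hQ : (7 : ℤ) ∣ Q ^ 2 + Q + 1) (i : Fin 7) :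
    ∃ (c : Fin 3 → ℤ) (z p : Fin 7 → ℤ), (sr i : Fin 7 → ℤ) = ∑ k, c k • yy k +
      (rep CoxeterMatrix.E₇.toCoxeterSystem hp.isCartan Cfsg.Agent.H795.NotAbData.E7.c6 z - Q • z) + (7 : ℤ) • p := by
  have h1 : (7 : ℤ) ∣ Q - 2 ∨ (7 : ℤ) ∣ Q - 4 := by
    have hp7 : Prime (7 : ℤ) := by exact_mod_cast Nat.prime_iff_prime_int.1 (by norm_num : Nat.Prime 7)
    apply hp7.dvd_or_dvd
    have h2 : (Q - 2) * (Q - 4) = (Q ^ 2 + Q + 1) - 7 * (Q - 1) := by ring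
    rw [h2]
    exact dvd_sub hQ (dvd_mul_right _ _)
  have h2 : ∀ (z : Fin 7 → ℤ) m, (rep CoxeterMatrix.E₇.toCoxeterSystem hp.isCartan Cfsg.Agent.H795.NotAbData.E7.c6 z) m =
      ∑ n, z n * U7 n m := fun z m => (Cfsg.Agent.H795.NotAbData.E7.is_c6 hp).apply z m
  rcases h1 with ⟨e, he⟩ | ⟨e, he⟩
  · refine ⟨fun k => cf 2 k i, z2 i, p2 i + e • z2 i, ?_⟩
    funext m
    rw [Cfsg.Agent.H795.NotAbCert.sr_apply', cert_two i m]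
    simp only [Pi.add_apply, Pi.sub_apply, Pi.smul_apply, Finset.sum_apply, smul_eq_mul, h2]
    have : Q = 2 + 7 * e := by rw [← he]; ring
    rw [this]
    ring
  · refine ⟨fun k => cf 4 k i, z4 i, p4 i + e • z4 i, ?_⟩
    funext m
    rw [Cfsg.Agent.H795.NotAbCert.sr_apply', cert_four i m]
    simp only [Pi.add_apply, Pi.sub_apply, Pi.smul_apply, Finset.sum_apply, smul_eq_mul, h2]
    have : Q = 4 + 7 * e := by rw [← he]; ring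
    rw [this]
    ring

end Cfsg.Agent.H553.RV.E7B
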