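import Cfsg.Agent.H553.RV.LinB

/-!
# TEAM RV, R2 linear/unitary: pairs of elements of minimal support (helper553)
-/

set_option autoImplicit false

namespace Cfsg.Agent.H553.RV

open Module Cfsg.Agent.H167.OP Cfsg.Agent.H170.HL Cfsg.Agent.H556.HallRowAbs Cfsg.Agent.H556.HallLB
  Cfsg.Agent.H556.HallSmallCen

variable {F : Type*} [Field F] {V : Type*} [AddCommGroup V] [Module F V] {Y : Type*} [Group Y]
  {ρ : Representation F Y V}

/-- `g` stabilises the subspace -/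
def St (ρ : Representation F Y V) (W : Submodule F V) (g : Y) : Prop := ∀ w ∈ W, ρ g w ∈ W

theorem St.mul {W : Submodule F V} {g h : Y} (hg : St ρ W g) (hh : St ρ W h) : St ρ W (g * h) := by
  intro w hw
  rw [mul_ap]
  exact hg _ (hh w hw)

theorem St.pow {W : Submodule F V} {g : Y} (hg : St ρ W g) (n : ℕ) : St ρ W (g ^ n) := by
  induction n with
  | zero => intro w hw; rw [pow_zero, one_ap]; exact hw
  | succ n ih => rw [pow_succ']; exact hg.mul ih

theorem St.inv [Finite Y] {W : Submodule F V} {g : Y} (hg : St ρ W g) : St ρ W g⁻¹ := by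
  have h1 : g⁻¹ = g ^ (orderOf g - 1) := by
    rw [inv_eq_iff_mul_eq_one, ← pow_succ', Nat.sub_add_cancel (orderOf_pos g), pow_orderOf_eq_one]
  rw [h1]
  exact hg.pow _

theorem St.of_inv [Finite Y] {W : Submodule F V} {g : Y} (hg : St ρ W g⁻¹) : St ρ W g := by
  rw [← inv_inv g]; exact hg.inv

/-- a vector which is a sum of vectors fixed by `a` -/
theorem indep_sum {ι : Type*} (s : Finset ι) (a : ι → Y) (x : ι → V) {t : ℕ} (htF : (t : F) ≠ 0)
    (ha : ∀ i ∈ s, a i ^ t = 1) (hx : ∀ i ∈ s, x i ∈ Rg ρ (a i))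
    (hf : ∀ i ∈ s, ∀ k ∈ s, i ≠ k → ρ (a k) (x i) = x i) (h0 : ∑ i ∈ s, x i = 0) : ∀ k ∈ s, x k = 0 := by
  classical
  intro k hk
  apply eq_zero_of_fix htF (ha k hk) (hx k hk)
  have h1 : ρ (a k) (∑ i ∈ s, x i) - ∑ i ∈ s, x i = ρ (a k) (x k) - x k := by
    rw [map_sum, ← Finset.sum_sub_distrib]
    refine Finset.sum_eq_single_of_mem k hk fun i hi hik => ?_
    rw [hf i hi k hk hik, sub_self]
  rw [h0, map_zero, sub_zero] at h1
  exact sub_eq_zero.mp h1.symm

/-- two elements with the same minimal support -/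
theorem mem_zpowers_of_Rg [FiniteDimensional F V] [Finite Y] {e : ℕ → ℕ} (h : RowDat ρ e) {v : ℕ} (hv : v.Prime)
    (hvo : Odd v) (hvF : (v : F) ≠ 0) {a a' : Y} (ha : IsZ ρ e v a) (ha' : a' ^ v = 1) (hc : a * a' = a' * a)
    (hR : Rg ρ a' ≤ Rg ρ a) : ∃ j : ℕ, a' = a ^ j := by
  set D' : Subgroup Y := Subgroup.closure {a, a'} with hD'
  have hS : ∀ x ∈ ({a, a'} : Set Y), ∀ y ∈ ({a, a'} : Set Y), x * y = y * x := by
    intro x hx y hy
    simp only [Set.mem_insert_iff, Set.mem_singleton_iff] at hx hy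
    rcases hx with rfl | rfl <;> rcases hy with rfl | rfl
    · rfl
    · exact hc
    · exact hc.symm
    · rfl
  have hab := comm_closure hS
  have hexp : ∀ x ∈ D', x ^ v = 1 := pow_closure hS (by
    intro x hx
    simp only [Set.mem_insert_iff, Set.mem_singleton_iff] at hx
    rcases hx with rfl | rfl
    · exact ha.1
    · exact ha')
  have haD : a ∈ D' := Subgroup.subset_closure (by simp)
  have haD' : a' ∈ D' := Subgroup.subset_closure (by simp)
  have hRD : CV ρ D' ≤ Rg ρ a := by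
    rw [hD']
    refine CV_closure_le ?_
    intro x hx
    simp only [Set.mem_insert_iff, Set.mem_singleton_iff] at hx
    rcases hx with rfl | rfl
    · exact le_rfl
    · exact hR
  have hpos : 0 < e v := h.epos v hv hvF
  have ha1 : a ≠ 1 := by
    rintro rfl
    have h1 : rk ρ (1 : Y) = 0 := by
      rw [rk, map_one, sub_self, LinearMap.range_zero, finrank_bot]
    have h2 := ha.2
    omega
  have := Fact.mk hv
  have hcard : (Nat.card D' : F) ≠ 0 := by
    have hP : IsPGroup v D' := fun x => ⟨1, Subtype.ext (by rw [pow_one]; exact hexp x x.2)⟩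
    obtain ⟨n, hn⟩ := IsPGroup.iff_card.mp hP
    rw [hn]; exact cardNeOfPow hvF
  obtain ⟨E, hE, -, hV⟩ := exists_VE ρ hv hvF hcard hab hexp ⟨a, haD, fun h1 => ha1 (h.inj (by rw [h1, map_one]))⟩
  have hE1 : E = ⊥ := by
    rw [eq_bot_iff]
    intro x hx
    rw [Subgroup.mem_bot]
    by_contra hx1
    have h2 : Rg ρ x ≤ Rg ρ a := (range_le_CV ρ (hE.1 hx)).trans hRD
    have h3 := le_rk_of_ne h hv hvo hvF (hexp x (hE.1 hx)) hx1
    have h4 : Rg ρ x = Rg ρ a := by
      apply Submodule.eq_of_le_of_finrank_le h2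
      rw [finrank_Rg, finrank_Rg, ha.2]
      exact h3
    apply hV
    rw [eq_bot_iff]
    intro w hw
    have h5 : w ∈ Rg ρ x := by
      rw [h4]
      exact hRD (VE_le_CV ρ hcard hw)
    exact eq_zero_of_fix hvF (hexp x (hE.1 hx)) h5 (hw.1 x hx)
  have h5 := hE.2 a haD (by rw [hE1, Subgroup.mem_bot]; exact ha1) haD'
  rw [hE1, bot_sup_eq] at h5
  have h6 := (mem_powers_iff_mem_zpowers (x := a) (y := a')).mpr h5
  obtain ⟨j, hj⟩ := h6
  exact ⟨j, hj.symm⟩

section atom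

variable [FiniteDimensional F V] [Finite Y] {e : ℕ → ℕ} {X H : Subgroup Y} {v : ℕ} {a : Y}

/-- `x` stabilises the atom of `a`: it normalises `⟨a⟩` -/
theorem norm_atom (D : LinDat ρ e X) (hH : HC F H) (hv : v.Prime) (hvo : Odd v) (hvF : (v : F) ≠ 0)
    (hgen : 2 * e v < v) (ha : IsZ ρ e v a) (haH : a ∈ H) {x : Y} (hxH : x ∈ H) (hx : St ρ (Rg ρ a) x) :
    ∃ j : ℕ, x * a * x⁻¹ = a ^ j := by
  have h1 : x * a * x⁻¹ ∈ H := H.mul_mem (H.mul_mem hxH haH) (H.inv_mem hxH)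
  have h2 : IsZ ρ e v (x * a * x⁻¹) := ha.conj x
  refine mem_zpowers_of_Rg D.row hv hvo hvF ha h2.1
    (small_comm D.row.inj hH hv hvF (ha.sm haH hgen) (h2.sm h1 hgen)) ?_
  rw [Rg_conj]
  rintro _ ⟨w, hw, rfl⟩
  exact hx w hw

/-- two translates of an atom -/
theorem two (D : LinDat ρ e X) (hH : HC F H) (hv : v.Prime) (hvo : Odd v) (hvF : (v : F) ≠ 0)
    (hgen : 2 * e v < v) (ha : IsZ ρ e v a) (haH : a ∈ H) {g h : Y} (hg : g ∈ H) (hh : h ∈ H)
    (hst : ¬ St ρ (Rg ρ a) (h⁻¹ * g)) {w : V} (hw : w ∈ Rg ρ a) : ρ (h * a * h⁻¹) (ρ g w) = ρ g w := by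
  have h1 : ∀ x ∈ H, x * a * x⁻¹ ∈ H := fun x hx => H.mul_mem (H.mul_mem hx haH) (H.inv_mem hx)
  have hc := small_comm D.row.inj hH hv hvF ((ha.conj g).sm (h1 g hg) hgen) ((ha.conj h).sm (h1 h hh) hgen)
  rcases atom_or D hv hvo hvF (ha.conj g) (ha.conj h) hc with h2 | h2
  · exfalso
    apply hst
    intro w hw
    have h3 : ρ g w ∈ Rg ρ (g * a * g⁻¹) := by rw [Rg_conj]; exact ⟨w, hw, rfl⟩
    rw [h2, Rg_conj] at h3
    obtain ⟨w', hw', h4⟩ := h3
    rw [mul_ap, ← h4, inv_ap]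
    exact hw'
  · apply h2
    rw [Rg_conj]
    exact ⟨w, hw, rfl⟩

omit [FiniteDimensional F V] [Finite Y] in
theorem ne_stab_pow {u : ℕ} (hu : u.Prime) {W : Submodule F V} {z : Y} (hz : z ^ u = 1) (hst : ¬ St ρ W z) {k : ℕ}
    (hk : ¬ u ∣ k) : ¬ St ρ W (z ^ k) := by
  intro h
  apply hst
  have hcop : Nat.Coprime k u := ((Nat.Prime.coprime_iff_not_dvd hu).mpr hk).symm
  obtain ⟨m, -, hm⟩ := Nat.exists_mul_mod_eq_one_of_coprime hcop hu.one_lt
  have h1 : z ^ (k * m) = z ^ 1 := pow_eq_of_modEq hz (by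
    show k * m % u = 1 % u
    rw [hm, Nat.mod_eq_of_lt hu.one_lt])
  have h2 := h.pow m
  rw [← pow_mul, h1, pow_one] at h2
  exact h2

/-- independence of the translates -/
theorem indep_translates (D : LinDat ρ e X) (hH : HC F H) (hv : v.Prime) (hvo : Odd v) (hvF : (v : F) ≠ 0)
    (hgen : 2 * e v < v) (ha : IsZ ρ e v a) (haH : a ∈ H) {u : ℕ} (hu : u.Prime) {z : Y} (hz : z ^ u = 1)
    (hzH : z ∈ H) (hst : ¬ St ρ (Rg ρ a) z) (w : ℕ → V) (hw : ∀ i, w i ∈ Rg ρ a)
    (h0 : ∑ i ∈ Finset.range u, ρ (z ^ i) (w i) = 0) : ∀ i < u, w i = 0 := by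
  intro k hk
  have h1 := indep_sum (ρ := ρ) (Finset.range u) (fun i => z ^ i * a * (z ^ i)⁻¹) (fun i => ρ (z ^ i) (w i)) hvF
    (fun i _ => (ha.conj (z ^ i)).1) (fun i _ => by
      rw [Rg_conj]
      exact ⟨_, hw i, rfl⟩) (fun i hi j hj hij => by
      rw [Finset.mem_range] at hi hj
      refine two D hH hv hvo hvF hgen ha haH (H.pow_mem hzH i) (H.pow_mem hzH j) ?_ (hw i)
      have h2 : (z ^ j)⁻¹ * z ^ i = z ^ (i + (u - j)) := by
        rw [inv_mul_eq_iff_eq_mul, ← pow_add, show j + (i + (u - j)) = i + u by omega, pow_add, hz, mul_one]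
      rw [h2]
      refine ne_stab_pow hu hz hst ?_
      intro hd
      obtain ⟨c, hc⟩ := hd
      have h3 : 0 < i + (u - j) := by omega
      have h4 : i + (u - j) < u * 2 := by omega
      have h5 : c ≠ 0 := by rintro rfl; omega
      have h6 : c < 2 := by
        by_contra h7
        have : u * 2 ≤ u * c := Nat.mul_le_mul_left u (by omega)
        omega
      have h7 : c = 1 := by omega
      subst h7
      omega) h0 k (Finset.mem_range.mpr hk)
  have h2 := congrArg (ρ (z ^ k)⁻¹) h1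
  rwa [inv_ap, map_zero] at h2

end atom

end Cfsg.Agent.H553.RV
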