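import Cfsg.Agent.H553.RV.LinC

/-!
# TEAM RV, R2 linear/unitary: the pair lemma (helper553)
-/

set_option autoImplicit false

namespace Cfsg.Agent.H553.RV

open Module Cfsg.Agent.H167.OP Cfsg.Agent.H170.HL Cfsg.Agent.H556.HallRowAbs Cfsg.Agent.H556.HallLB
  Cfsg.Agent.H556.HallSmallCen

variable {F : Type*} [Field F] {V : Type*} [AddCommGroup V] [Module F V] {Y : Type*} [Group Y]
  {ρ : Representation F Y V} [FiniteDimensional F V] [Finite Y] {e : ℕ → ℕ} {X H : Subgroup Y}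

/-- the commuting pairs of `X` are conjugate to pairs of `H` -/
def Dm (X H : Subgroup Y) (u v : ℕ) : Prop :=
  ∀ z ∈ X, ∀ b ∈ X, z * b = b * z → z ^ u = 1 → b ^ v = 1 → ∃ y : Y, y * z * y⁻¹ ∈ H ∧ y * b * y⁻¹ ∈ H

omit [FiniteDimensional F V] [Finite Y] in
theorem norm_zero {z : Y} {u : ℕ} (hz : z ^ u = 1) {w : V} (hw : w ∈ Rg ρ z) :
    ∑ i ∈ Finset.range u, ρ (z ^ i) w = 0 := by
  obtain ⟨v, rfl⟩ := mem_Rg.mp hw
  have h1 : ∀ i ∈ Finset.range u, ρ (z ^ i) (ρ z v - v) = ρ (z ^ (i + 1)) v - ρ (z ^ i) v := by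
    intro i _
    rw [map_sub, ← mul_ap, ← pow_succ]
  rw [Finset.sum_congr rfl h1, Finset.sum_range_sub (fun i => ρ (z ^ i) v), hz, pow_zero, sub_self]

/-- the numbers from independent translates -/
theorem moved_numbers (D : LinDat ρ e X) (hH : HC F H) {u v : ℕ} (hu : u.Prime) (huF : (u : F) ≠ 0)
    (hv : v.Prime) (hvo : Odd v) (hvF : (v : F) ≠ 0) (hgen : 2 * e v < v) {a z : Y} (ha : IsZ ρ e v a) (haH : a ∈ H)
    (hz : IsZ ρ e u z) (hzH : z ∈ H) (hst : ¬ St ρ (Rg ρ a) z) :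
    e v = 1 ∧ e u = u - 1 ∧ u ≤ finrank F V := by
  have hind := indep_translates D hH hv hvo hvF hgen ha haH hu hz.1 hzH hst
  have hu1 := hu.one_lt
  have h1 : (u - 1) * finrank F (Rg ρ a) ≤ rk ρ z := by
    refine le_rk ρ z (Rg ρ a) (u - 1) fun w hw h0 => ?_
    rw [Nat.sub_add_cancel hu1.le] at h0
    intro i hi
    exact hind w hw h0 i (by omega)
  rw [finrank_Rg, ha.2, hz.2] at h1
  have h2 : e u ≤ u - 1 := Nat.le_of_dvd (by omega) (D.row.edvd u hu huF)
  have h3 : 0 < e v := D.row.epos v hv hvF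
  have h4 : e v = 1 := by
    have h5 : (u - 1) * e v ≤ (u - 1) * 1 := by rw [mul_one]; exact h1.trans h2
    have := Nat.le_of_mul_le_mul_left h5 (by omega)
    omega
  have h5 : e u = u - 1 := by rw [h4, mul_one] at h1; omega
  refine ⟨h4, h5, ?_⟩
  have hne : Rg ρ a ≠ ⊥ := by
    intro h
    have h6 : finrank F (Rg ρ a) = 0 := by rw [h, finrank_bot]
    rw [finrank_Rg, ha.2] at h6
    omega
  obtain ⟨w, hw, hw0⟩ := Submodule.exists_mem_ne_zero_of_ne_bot hne
  have hli : LinearIndependent F (fun i : Fin u => ρ (z ^ (i : ℕ)) w) := by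
    rw [Fintype.linearIndependent_iff]
    intro g hg i
    have h6 := hind (fun k => if h : k < u then g ⟨k, h⟩ • w else 0) (fun k => by
      by_cases h : k < u
      · simp only [h, dif_pos]; exact Submodule.smul_mem _ _ hw
      · simp only [h, dif_neg, not_false_iff]; exact Submodule.zero_mem _) (by
      rw [Finset.sum_range, ← hg]
      refine Finset.sum_congr rfl fun k _ => ?_
      simp only [k.2, dif_pos, map_smul]) i i.2
    simp only [i.2, dif_pos] at h6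
    exact (smul_eq_zero.mp h6).resolve_right hw0
  have h6 := hli.fintype_card_le_finrank
  rwa [Fintype.card_fin] at h6

/-- elements of `Z_u(H)` stabilise the atoms of `Z_v(H)` -/
theorem stab_atom (D : LinDat ρ e X) (hH : HC F H) {u v : ℕ} (hu : u.Prime) (huo : Odd u) (huF : (u : F) ≠ 0)
    (hv : v.Prime) (hvo : Odd v) (hvF : (v : F) ≠ 0) (huv : u ≠ v) (hgen : 2 * e v < v)
    (hdm : Dm X H u v) {m : ℕ} {f : Fin m → Y} (hf : Fm ρ e H v m f)
    {a z : Y} (ha : IsZ ρ e v a) (haH : a ∈ H)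
    (hz : IsZ ρ e u z) (hzH : z ∈ H) : St ρ (Rg ρ a) z := by
  by_contra hst
  obtain ⟨hev, heu, hun⟩ := moved_numbers D hH hu huF hv hvo hvF hgen ha haH hz hzH hst
  have hu2 := hu.two_le
  have hu3 : 3 ≤ u := by
    rcases huo with ⟨k, hk⟩
    omega
  clear hst hzH hz z haH ha a
  obtain ⟨z', hz'X, b', hb'X, hz', hb', hzb, c, hc1, hc2⟩ := D.de u v hu hv huv huo hvo huF hvF heu hev hun
  obtain ⟨y, hyz, hyb⟩ := hdm z' hz'X b' hb'X hzb hz'.1 hb'
  set z := y * z' * y⁻¹ with hzdef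
  set b := y * b' * y⁻¹ with hbdef
  have hz : IsZ ρ e u z := hz'.conj y
  have hcomm : z * b = b * z := by
    have h1 : z * b = y * (z' * b') * y⁻¹ := by rw [hzdef, hbdef]; group
    have h2 : b * z = y * (b' * z') * y⁻¹ := by rw [hzdef, hbdef]; group
    rw [h1, h2, hzb]
  have hc1' : ∀ w ∈ Rg ρ z, ρ b w = c • w := by
    intro w hw
    rw [hzdef, Rg_conj] at hw
    obtain ⟨w', hw', rfl⟩ := hw
    rw [hbdef, mul_ap, mul_ap, inv_ap, hc1 w' hw', map_smul]
  have hc2' : ∀ w, ρ b w = c • w → w ∈ Rg ρ z := by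
    intro w hw
    rw [hzdef, Rg_conj]
    refine ⟨ρ y⁻¹ w, hc2 _ ?_, ap_inv ρ y w⟩
    rw [hbdef, mul_ap, mul_ap] at hw
    have h3 := congrArg (ρ y⁻¹) hw
    rwa [inv_ap, map_smul] at h3
  -- `z` moves an atom
  obtain ⟨i, hi⟩ : ∃ i, ¬ St ρ (Rg ρ (f i)) z := by
    by_contra hcon
    push Not at hcon
    have h1 : ∀ i, z * f i = f i * z := by
      intro i
      by_contra hne
      obtain ⟨j, hj⟩ := norm_atom D hH hv hvo hvF hgen (hf.isZ i) (hf.mem i) hyz (hcon i)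
      have h2 := (fr ρ hu hv hvF (hf.isZ i).1 hz.1 hj hne).1
      rw [(hf.isZ i).2, hev] at h2
      have h3 := Nat.dvd_one.mp h2
      omega
    have h2 : ∀ i, ∀ w ∈ Rg ρ z, ρ (f i) w = w := by
      intro i
      rcases dicho D hu huo huF hz (h1 i) hvF (hf.isZ i).1 with h | h
      · exact h
      · exfalso
        have h3 : Rg ρ z ≤ Rg ρ (f i) := le_Rg_of_free (fun w hw => comm_Rg (h1 i) hw) h
        have h4 := Submodule.finrank_mono h3
        rw [finrank_Rg, finrank_Rg, hz.2, (hf.isZ i).2, hev, heu] at h4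
        omega
    have h3 := hf.max _ h2
    rw [finrank_Rg, hz.2, hev, heu] at h3
    omega
  set a := f i with hadef
  have ha : IsZ ρ e v a := hf.isZ i
  have haH : a ∈ H := hf.mem i
  have hne : Rg ρ a ≠ ⊥ := by
    intro h
    have h6 : finrank F (Rg ρ a) = 0 := by rw [h, finrank_bot]
    rw [finrank_Rg, ha.2] at h6
    omega
  obtain ⟨w, hw, hw0⟩ := Submodule.exists_mem_ne_zero_of_ne_bot hne
  have h1H : ∀ x ∈ H, x * a * x⁻¹ ∈ H := fun x hx => H.mul_mem (H.mul_mem hx haH) (H.inv_mem hx)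
  have hrel : ρ (z * b) w - ρ b w - c • ρ z w + c • w = 0 := by
    have h1 := hc1' _ (sub_mem_Rg z w)
    rw [map_sub, ← mul_ap, ← hcomm, smul_sub] at h1
    rw [h1]
    abel
  have hsz : ¬ St ρ (Rg ρ a) z := hi
  have hTwo : ∀ {g h : Y}, g ∈ H → h ∈ H → ¬ St ρ (Rg ρ a) (h⁻¹ * g) → ρ (h * a * h⁻¹) (ρ g w) = ρ g w :=
    fun hg hh hst => two D hH hv hvo hvF hgen ha haH hg hh hst hw
  have hself : ∀ g : Y, ρ g w ∈ Rg ρ (g * a * g⁻¹) := fun g => by rw [Rg_conj]; exact ⟨w, hw, rfl⟩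
  -- `b` stabilises the atom
  have hsb : St ρ (Rg ρ a) b := by
    by_contra hsb
    by_cases hcase : St ρ (Rg ρ a) (z⁻¹ * b)
    · have hzbH : z * b ∈ H := H.mul_mem hyz hyb
      have h1 : ρ ((z * b) * a * (z * b)⁻¹) (ρ b w) = ρ b w := hTwo hyb hzbH (by
        have h2 : (z * b)⁻¹ * b = z⁻¹ := by rw [hcomm]; group
        rw [h2]
        exact fun h => hsz h.of_inv)
      have h2 : ρ ((z * b) * a * (z * b)⁻¹) (ρ z w) = ρ z w := hTwo hyz hzbH (by
        have h2 : (z * b)⁻¹ * z = b⁻¹ := by group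
        rw [h2]
        exact fun h => hsb h.of_inv)
      have h3 : ρ ((z * b) * a * (z * b)⁻¹) (ρ 1 w) = ρ 1 w := hTwo H.one_mem hzbH (by
        rw [mul_one]
        intro h
        have h4 : St ρ (Rg ρ a) (z ^ 2) := by
          have h5 : z ^ 2 = (z * b) * (z⁻¹ * b)⁻¹ := by rw [pow_two]; group
          rw [h5]
          exact h.of_inv.mul hcase.inv
        exact ne_stab_pow hu hz.1 hsz (k := 2) (by
          intro hd
          have := Nat.le_of_dvd (by norm_num) hd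
          omega) h4)
      rw [one_ap] at h3
      have h4 : ρ ((z * b) * a * (z * b)⁻¹) (ρ (z * b) w) = ρ (z * b) w := by
        have h5 : ρ (z * b) w = ρ b w + c • ρ z w - c • w := by
          have := hrel
          rw [← sub_eq_zero, ← this]; abel
        rw [h5, map_sub, map_add, map_smul, map_smul, h1, h2, h3]
      have h5 := eq_zero_of_fix hvF (ha.conj (z * b)).1 (hself (z * b)) h4
      apply hw0
      have h6 := congrArg (ρ (z * b)⁻¹) h5
      rwa [inv_ap, map_zero] at h6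
    · have h1 : ρ (b * a * b⁻¹) (ρ (z * b) w) = ρ (z * b) w := hTwo (H.mul_mem hyz hyb) hyb (by
        have h2 : b⁻¹ * (z * b) = z := by rw [hcomm]; group
        rw [h2]
        exact hsz)
      have h2 : ρ (b * a * b⁻¹) (ρ z w) = ρ z w := hTwo hyz hyb (by
        intro h
        apply hcase
        have h3 : z⁻¹ * b = (b⁻¹ * z)⁻¹ := by group
        rw [h3]
        exact h.inv)
      have h3 : ρ (b * a * b⁻¹) (ρ 1 w) = ρ 1 w := hTwo H.one_mem hyb (by
        rw [mul_one]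
        exact fun h => hsb h.of_inv)
      rw [one_ap] at h3
      have h4 : ρ (b * a * b⁻¹) (ρ b w) = ρ b w := by
        have h5 : ρ b w = ρ (z * b) w - c • ρ z w + c • w := by
          have := hrel
          rw [← sub_eq_zero, ← neg_eq_zero, ← this]; abel
        rw [h5, map_add, map_sub, map_smul, map_smul, h1, h2, h3]
      have h5 := eq_zero_of_fix hvF (ha.conj b).1 (hself b) h4
      apply hw0
      have h6 := congrArg (ρ b⁻¹) h5
      rwa [inv_ap, map_zero] at h6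
  -- `b` is the scalar `c` on the atom
  have h1 : finrank F (Rg ρ a) = 1 := by rw [finrank_Rg, ha.2, hev]
  obtain ⟨c', hc'⟩ : ∃ c' : F, ρ b w = c' • w := by
    obtain ⟨c', hc'⟩ := exists_smul_eq_of_finrank_eq_one h1 (x := (⟨w, hw⟩ : Rg ρ a))
      (fun h => hw0 (congrArg Subtype.val h)) ⟨ρ b w, hsb w hw⟩
    exact ⟨c', (congrArg Subtype.val hc').symm⟩
  have h2 : ρ z w - w ≠ 0 := by
    intro h
    have h3 : ρ (1 * a * (1 : Y)⁻¹) (ρ z w) = ρ z w := hTwo hyz H.one_mem (by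
      rw [inv_one, one_mul]; exact hsz)
    rw [one_mul, inv_one, mul_one, sub_eq_zero.mp h] at h3
    exact hw0 (eq_zero_of_fix hvF ha.1 hw h3)
  have h3 : c' = c := by
    have h4 := hc1' _ (sub_mem_Rg z w)
    have h5 : ρ b (ρ z w - w) = c' • (ρ z w - w) := by
      rw [map_sub, ← mul_ap, ← hcomm, mul_ap, hc', map_smul, smul_sub]
    rw [h5] at h4
    have h6 : (c' - c) • (ρ z w - w) = 0 := by rw [sub_smul, h4, sub_self]
    exact sub_eq_zero.mp ((smul_eq_zero.mp h6).resolve_right h2)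
  have h4 : w ∈ Rg ρ z := hc2' w (by rw [hc', h3])
  have h5 := norm_zero hz.1 h4
  exact hw0 (indep_translates D hH hv hvo hvF hgen ha haH hu hz.1 hyz hsz (fun _ => w) (fun _ => hw) h5 0 hu.pos)

/-- **the pair lemma** -/
theorem pair (D : LinDat ρ e X) (hH : HC F H) {u v : ℕ} (hu : u.Prime) (huo : Odd u) (huF : (u : F) ≠ 0)
    (hv : v.Prime) (hvo : Odd v) (hvF : (v : F) ≠ 0) (huv : u ≠ v) (hgen : 2 * e v < v)
    (hdm : Dm X H u v) {m : ℕ} {f : Fin m → Y} (hf : Fm ρ e H v m f)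
    {a z : Y} (ha : IsZ ρ e v a) (haH : a ∈ H)
    (hz : IsZ ρ e u z) (hzH : z ∈ H) : z * a = a * z ∨ (e v = u ∧ e u = u - 1) := by
  by_cases hne : z * a = a * z
  · exact Or.inl hne
  right
  have hst := stab_atom D hH hu huo huF hv hvo hvF huv hgen hdm hf ha haH hz hzH
  obtain ⟨j, hj⟩ := norm_atom D hH hv hvo hvF hgen ha haH hzH hst
  obtain ⟨h1, h2⟩ := fr ρ hu hv hvF ha.1 hz.1 hj hne
  rw [ha.2] at h1 h2
  rw [hz.2] at h2
  have hu1 := hu.one_lt
  have h3 : e u ≤ u - 1 := Nat.le_of_dvd (by omega) (D.row.edvd u hu huF)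
  have h4 : u ≤ e v := Nat.le_of_dvd (D.row.epos v hv hvF) h1
  have h5 : (u - 1) * e v ≤ (u - 1) * u := by
    refine h2.trans ?_
    rw [mul_comm (u - 1) u]
    exact Nat.mul_le_mul_left u h3
  have h6 : e v ≤ u := Nat.le_of_mul_le_mul_left h5 (by omega)
  have h7 : e v = u := le_antisymm h6 h4
  refine ⟨h7, ?_⟩
  rw [h7, mul_comm (u - 1) u] at h2
  have := Nat.le_of_mul_le_mul_left h2 hu.pos
  omega

end Cfsg.Agent.H553.RV
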