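import Cfsg.Agent.H553.RV.LinC2
import Cfsg.Agent.H170.HL.ClRows

/-!
# TEAM RV, R2 linear/unitary: the primes `v` with `e v = v - 1` (helper553)
-/

set_option autoImplicit false

namespace Cfsg.Agent.H553.RV

open Module Cfsg.Agent.H167.OP Cfsg.Agent.H170.HL Cfsg.Agent.H556.HallRowAbs Cfsg.Agent.H556.HallLB
  Cfsg.Agent.H556.HallSmallCen

variable {F : Type*} [Field F] {V : Type*} [AddCommGroup V] [Module F V] {Y : Type*} [Group Y]
  {ρ : Representation F Y V} [FiniteDimensional F V] [Finite Y] {e : ℕ → ℕ} {X H : Subgroup Y}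

/-- commuting elements of order `v` in small dimension -/
theorem cyc (h : RowDat ρ e) {v : ℕ} (hv : v.Prime) (hvo : Odd v) (hvF : (v : F) ≠ 0) {x c : Y} (hx : x ^ v = 1)
    (hx1 : x ≠ 1) (hc : c ^ v = 1) (hxc : x * c = c * x) (hdim : finrank F (CV ρ (Subgroup.closure {x, c})) < 2 * e v) :
    ∃ j : ℕ, c = x ^ j := by
  set D' : Subgroup Y := Subgroup.closure {x, c} with hD'
  have hS : ∀ a ∈ ({x, c} : Set Y), ∀ b ∈ ({x, c} : Set Y), a * b = b * a := by
    intro a ha b hb
    simp only [Set.mem_insert_iff, Set.mem_singleton_iff] at ha hb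
    rcases ha with rfl | rfl <;> rcases hb with rfl | rfl
    · rfl
    · exact hxc
    · exact hxc.symm
    · rfl
  have hab := comm_closure hS
  have hexp : ∀ a ∈ D', a ^ v = 1 := pow_closure hS (by
    intro a ha
    simp only [Set.mem_insert_iff, Set.mem_singleton_iff] at ha
    rcases ha with rfl | rfl
    · exact hx
    · exact hc)
  have hxD : x ∈ D' := Subgroup.subset_closure (by simp)
  have hcD : c ∈ D' := Subgroup.subset_closure (by simp)
  have := Fact.mk hv
  have hcard : (Nat.card D' : F) ≠ 0 := by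
    have hP : IsPGroup v D' := fun x => ⟨1, Subtype.ext (by rw [pow_one]; exact hexp x x.2)⟩
    obtain ⟨n, hn⟩ := IsPGroup.iff_card.mp hP
    rw [hn]; exact cardNeOfPow hvF
  obtain ⟨E, hE, -, hV⟩ := exists_VE ρ hv hvF hcard hab hexp ⟨x, hxD, fun h1 => hx1 (h.inj (by rw [h1, map_one]))⟩
  have hE1 : E = ⊥ := by
    rw [eq_bot_iff]
    intro y hy
    rw [Subgroup.mem_bot]
    by_contra hy1
    have h3 := le_rk_of_ne h hv hvo hvF (hexp y (hE.1 hy)) hy1
    have h4 := h.lb v hv hvo hvF D' E hE.1 hab hexp hV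
    have h5 : Disjoint (Rg ρ y) (VE ρ E D') := by
      rw [Submodule.disjoint_def]
      intro w hw hw'
      exact eq_zero_of_fix hvF (hexp y (hE.1 hy)) hw (hw'.1 y hy)
    have h6 : Rg ρ y ⊔ VE ρ E D' ≤ CV ρ D' := sup_le (range_le_CV ρ (hE.1 hy)) (VE_le_CV ρ hcard)
    have h7 := Submodule.finrank_mono h6
    have h8 := Submodule.finrank_sup_add_finrank_inf_eq (Rg ρ y) (VE ρ E D')
    rw [h5.eq_bot, finrank_bot, finrank_Rg] at h8
    omega
  have h5 := hE.2 x hxD (by rw [hE1, Subgroup.mem_bot]; exact hx1) hcD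
  rw [hE1, bot_sup_eq] at h5
  obtain ⟨j, hj⟩ := (mem_powers_iff_mem_zpowers (x := x) (y := c)).mpr h5
  exact ⟨j, hj.symm⟩

/-- the pair lemma in a `{u, v}`-group, `u < v`, `e u = u - 1`, `e v = v - 1` -/
theorem pair_uv (D : LinDat ρ e X) {K : Subgroup Y} (hK : HC F K) {u v : ℕ} (hu : u.Prime) (huo : Odd u)
    (huF : (u : F) ≠ 0) (hv : v.Prime) (hvo : Odd v) (hvF : (v : F) ≠ 0) (huv : u < v) (heu : e u = u - 1)
    (hev : e v = v - 1) (hKuv : ∀ r : ℕ, r.Prime → r ∣ Nat.card K → r = u ∨ r = v) {a z : Y} (ha : IsZ ρ e v a)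
    (haK : a ∈ K) (hz : IsZ ρ e u z) (hzK : z ∈ K) : z * a = a * z := by
  have := Fact.mk hv
  have hu2 := hu.two_le
  have hu3 : 3 ≤ u := by
    rcases huo with ⟨k, hk⟩
    omega
  by_contra hne
  set L : Subgroup Y := Subgroup.closure {z, a} with hL
  have hzL : z ∈ L := Subgroup.subset_closure (by simp)
  have haL : a ∈ L := Subgroup.subset_closure (by simp)
  have hLK : L ≤ K := by
    rw [hL, Subgroup.closure_le]
    intro x hx
    simp only [Set.mem_insert_iff, Set.mem_singleton_iff] at hx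
    rcases hx with rfl | rfl
    · exact hzK
    · exact haK
  have hdim : finrank F (CV ρ L) ≤ (u - 1) + (v - 1) := by
    have h1 : CV ρ L ≤ Rg ρ z ⊔ Rg ρ a := by
      rw [hL]
      refine CV_closure_le ?_
      intro x hx
      simp only [Set.mem_insert_iff, Set.mem_singleton_iff] at hx
      rcases hx with rfl | rfl
      · exact le_sup_left
      · exact le_sup_right
    have h2 := (Submodule.finrank_mono h1).trans (Submodule.finrank_add_le_finrank_add_finrank _ _)
    rw [finrank_Rg, finrank_Rg, hz.2, ha.2, heu, hev] at h2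
    exact h2
  let N : Subgroup Y := Subgroup.closure {x | x ∈ L ∧ ∃ k : ℕ, x ^ v ^ k = 1}
  have hNL : N ≤ L := by
    refine (Subgroup.closure_le L).mpr ?_
    exact fun x hx => hx.1
  have hNK := hK.mono (hNL.trans hLK)
  have haN : a ∈ N := Subgroup.subset_closure ⟨haL, 1, by rw [pow_one]; exact ha.1⟩
  have hza : z * a * z⁻¹ ∈ N := Subgroup.subset_closure ⟨L.mul_mem (L.mul_mem hzL haL) (L.inv_mem hzL), 1, by
    rw [pow_one]; exact (ha.conj z).1⟩
  have hC : CenH v N := by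
    intro y' hy' r hrp hrt R hR hn
    by_cases hd : r ∣ Nat.card N
    · have hru : r = u := by
        rcases hKuv r hrp (hd.trans (Subgroup.card_dvd_of_le (hNL.trans hLK))) with h | h
        · exact h
        · exact absurd h hrt
      have h1 := cen_below D.row hv hu huo huv huF (by omega) (Rows.beta_all D.row.inj v hv hvo hvF) N
        (((Submodule.finrank_mono (CV_mono ρ hNL)).trans hdim).trans (by omega)) (y := (y' : Y)) (by
        obtain ⟨k, hk⟩ := hy'
        exact ⟨k, congrArg Subtype.val hk⟩) (R := R.map N.subtype) (Subgroup.map_subtype_le _) (by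
        rintro _ ⟨x, hx, rfl⟩
        obtain ⟨k, hk⟩ := hR ⟨x, hx⟩
        rw [hru] at hk
        exact ⟨k, congrArg (fun z : R => ((z : N) : Y)) hk⟩) (by
        rintro _ ⟨x, hx, rfl⟩
        exact ⟨_, hn x hx, rfl⟩)
      intro d hd
      exact Subtype.ext (h1 d ⟨d, hd, rfl⟩)
    · intro d hdR
      obtain ⟨k, hk⟩ := hR ⟨d, hdR⟩
      have h1 : d ^ r ^ k = 1 := congrArg Subtype.val hk
      have h5 : Nat.Coprime (r ^ k) (Nat.card N) := Nat.Coprime.pow_left _ ((Nat.Prime.coprime_iff_not_dvd hrp).mpr hd)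
      have h6 : orderOf d ∣ 1 := by
        rw [← h5]
        exact Nat.dvd_gcd (orderOf_dvd_of_pow_eq_one h1) (orderOf_dvd_natCard d)
      rw [orderOf_eq_one_iff.mp (Nat.dvd_one.mp h6), mul_one, one_mul]
  have hgen : Subgroup.closure {x : N | ∃ k : ℕ, x ^ v ^ k = 1} = ⊤ := by
    rw [eq_top_iff, ← Subgroup.closure_closure_coe_preimage (k := {x : Y | x ∈ L ∧ ∃ k : ℕ, x ^ v ^ k = 1})]
    apply Subgroup.closure_mono
    rintro ⟨x, hx⟩ ⟨-, k, hk⟩
    exact ⟨k, Subtype.ext hk⟩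
  have hNp : IsPGroup v N := isPGroup_of_cenH hNK.sol hC hgen
  have ha1 : a ≠ 1 := by
    rintro rfl
    apply hne
    rw [mul_one, one_mul]
  have hnt : Nontrivial N := ⟨⟨⟨a, haN⟩, 1, fun h => ha1 (congrArg Subtype.val h)⟩⟩
  have hcn : Nontrivial (Subgroup.center N) := hNp.center_nontrivial
  obtain ⟨⟨⟨c', hc'N⟩, hc'⟩, hc'1⟩ := exists_ne (1 : Subgroup.center N)
  have hc'2 : c' ≠ 1 := fun h => hc'1 (Subtype.ext (Subtype.ext h))
  obtain ⟨n, hn1, hn⟩ := exists_pow_prime (t := v) hc'2 (by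
    obtain ⟨k, hk⟩ := hNp ⟨c', hc'N⟩
    exact ⟨k, congrArg Subtype.val hk⟩)
  set c := c' ^ n with hcdef
  have hcN : c ∈ N := N.pow_mem hc'N n
  have hcc : ∀ x ∈ N, x * c = c * x := by
    intro x hx
    have h1 : Commute x c' := congrArg Subtype.val (Subgroup.mem_center_iff.mp hc' ⟨x, hx⟩)
    exact h1.pow_right n
  have hd2 : ∀ x ∈ N, ∀ y ∈ N, finrank F (CV ρ (Subgroup.closure {x, y})) < 2 * e v := by
    intro x hx y hy
    have h1 : Subgroup.closure {x, y} ≤ L := by
      rw [Subgroup.closure_le]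
      intro b hb
      simp only [Set.mem_insert_iff, Set.mem_singleton_iff] at hb
      rcases hb with rfl | rfl
      · exact hNL hx
      · exact hNL hy
    have h2 := Submodule.finrank_mono (CV_mono ρ h1)
    rw [hev]
    omega
  obtain ⟨j₁, hj₁⟩ := cyc D.row hv hvo hvF ha.1 ha1 hn (hcc a haN) (hd2 a haN c hcN)
  obtain ⟨j₂, hj₂⟩ := cyc D.row hv hvo hvF hn hn1 (ha.conj z).1 (hcc _ hza).symm (hd2 c hcN _ hza)
  have hj : z * a * z⁻¹ = a ^ (j₁ * j₂) := by rw [hj₂, hj₁, pow_mul]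
  have h2 := (fr ρ hu hv hvF ha.1 hz.1 hj hne).2
  rw [ha.2, hz.2, heu, hev, mul_comm u (u - 1)] at h2
  have h3 : v - 1 ≤ u := Nat.le_of_mul_le_mul_left h2 (by omega)
  rcases huo with ⟨k, hk⟩
  rcases hvo with ⟨l, hl⟩
  omega

/-- **the primes with `e v = v - 1` are minimal** -/
theorem nongen (D : LinDat ρ e X) (hH : HC F H) {u v : ℕ} (hu : u.Prime) (hv : v.Prime)
    (huH : u ∣ Nat.card H) (hvH : v ∣ Nat.card H) (hui : ¬ u ∣ H.index) (hvi : ¬ v ∣ H.index) (huv : u < v)
    (hev : e v = v - 1) (hdm : Dm X H v u) : False := by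
  obtain ⟨hu2, huF⟩ := hH.ok u hu huH
  obtain ⟨hv2, hvF⟩ := hH.ok v hv hvH
  have huo : Odd u := hu.odd_of_ne_two hu2
  have hvo : Odd v := hv.odd_of_ne_two hv2
  have huY : u ∣ Nat.card Y := huH.trans (Subgroup.card_subgroup_dvd_card H)
  have hvY : v ∣ Nat.card Y := hvH.trans (Subgroup.card_subgroup_dvd_card H)
  have hu0 := hu.two_le
  have heule : e u ≤ u - 1 := Nat.le_of_dvd (by omega) (D.row.edvd u hu huF)
  by_cases hgen : 2 * e u < u
  · obtain ⟨m, f, hf⟩ := exists_frame D hu huo huF huY hui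
    obtain ⟨m', f', hf'⟩ := exists_frame D hv hvo hvF hvY hvi
    have hm' : 0 < m' := by
      by_contra h0
      have h1 := hf'.max ⊤ (fun i => absurd i.2 (by omega))
      obtain ⟨x, hx⟩ := @exists_prime_orderOf_dvd_card' _ _ _ v (Fact.mk hv) hvY
      have h2 := le_rk_of_ne D.row hv hvo hvF (y := x) (by rw [← hx]; exact pow_orderOf_eq_one x) (by
        rintro rfl
        rw [orderOf_one] at hx
        exact hv.one_lt.ne hx)
      have h3 := Submodule.finrank_mono (le_top : Rg ρ x ≤ ⊤)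
      rw [finrank_Rg] at h3
      omega
    have hc : ∀ i, f i * f' ⟨0, hm'⟩ = f' ⟨0, hm'⟩ * f i := by
      intro i
      rcases pair D hH hv hvo hvF hu huo huF huv.ne' hgen hdm hf (hf.isZ i) (hf.mem i) (hf'.isZ ⟨0, hm'⟩)
        (hf'.mem _) with h | h
      · exact h.symm
      · omega
    have h1 := e_le_of_comm D huF hv hvo hvF hf (hf'.isZ ⟨0, hm'⟩) hc
    omega
  · have heu : e u = u - 1 := by
      obtain ⟨k, hk⟩ := D.row.edvd u hu huF
      have h1 : k ≠ 0 := by rintro rfl; omega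
      have h2 : k < 2 := by
        by_contra h3
        have : e u * 2 ≤ e u * k := Nat.mul_le_mul_left _ (by omega)
        omega
      have h3 : k = 1 := by omega
      rw [h3, mul_one] at hk
      exact hk.symm
    -- the Hall `{u, v}`-subgroup
    obtain ⟨K, hKH, hKp, hKi⟩ : ∃ K : Subgroup Y, K ≤ H ∧ (∀ r : ℕ, r.Prime → r ∣ Nat.card K → r = u ∨ r = v) ∧
        ∀ r : ℕ, r.Prime → (r = u ∨ r = v) → ¬ r ∣ K.index := by
      obtain ⟨K, hK⟩ := Cfsg.Agent.OddOrderLocal.HallPi.exists_isPiHallOf hH.sol ({u, v} : Set ℕ)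
      refine ⟨K, hK.1, fun r hr hd => ?_, fun r hr hruv hd => ?_⟩
      · exact hK.2.1 r hr hd
      · rw [← Subgroup.relIndex_mul_index hK.1] at hd
        rcases (Nat.Prime.dvd_mul hr).mp hd with h | h
        · exact hK.2.2 r hr hruv h
        · rcases hruv with rfl | rfl
          · exact hui h
          · exact hvi h
    have hKC := hH.mono hKH
    obtain ⟨m, f, hf⟩ := exists_frame D hu huo huF huY (hKi u hu (Or.inl rfl))
    obtain ⟨m', f', hf'⟩ := exists_frame D hv hvo hvF hvY (hKi v hv (Or.inr rfl))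
    have hm' : 0 < m' := by
      by_contra h0
      have h1 := hf'.max ⊤ (fun i => absurd i.2 (by omega))
      obtain ⟨x, hx⟩ := @exists_prime_orderOf_dvd_card' _ _ _ v (Fact.mk hv) hvY
      have h2 := le_rk_of_ne D.row hv hvo hvF (y := x) (by rw [← hx]; exact pow_orderOf_eq_one x) (by
        rintro rfl
        rw [orderOf_one] at hx
        exact hv.one_lt.ne hx)
      have h3 := Submodule.finrank_mono (le_top : Rg ρ x ≤ ⊤)
      rw [finrank_Rg] at h3
      omega
    have hc : ∀ i, f i * f' ⟨0, hm'⟩ = f' ⟨0, hm'⟩ * f i := fun i =>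
      pair_uv D hKC hu huo huF hv hvo hvF huv heu hev hKp (hf'.isZ _) (hf'.mem _) (hf.isZ i) (hf.mem i)
    have h1 := e_le_of_comm D huF hv hvo hvF hf (hf'.isZ ⟨0, hm'⟩) hc
    omega

end Cfsg.Agent.H553.RV
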