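import Cfsg.Agent.H553.RV.LinA
import Cfsg.Agent.H167.OP.Beta

/-!
# TEAM RV, R2 linear/unitary: the dimension formula for a Frobenius action (helper553)
-/

set_option autoImplicit false

namespace Cfsg.Agent.H553.RV

open Module Cfsg.Agent.H167.OP Cfsg.Agent.H556.HallLB

universe w

theorem pow_eq_of_modEq {M : Type*} [Monoid M] {x : M} {v a b : ℕ} (hx : x ^ v = 1) (h : a ≡ b [MOD v]) :
    x ^ a = x ^ b := by
  have h1 : a % v = b % v := h
  rw [← Nat.div_add_mod a v, ← Nat.div_add_mod b v, pow_add, pow_mul, hx, one_pow, one_mul, pow_add, pow_mul, hx,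
    one_pow, one_mul, h1]

theorem modEq_of_pow_eq {K : Type*} [Field K] {x : K} {v a b : ℕ} (hv : 0 < v) (hx : orderOf x = v)
    (h : x ^ a = x ^ b) : a ≡ b [MOD v] := by
  have h0 : x ^ v = 1 := by rw [← hx]; exact pow_orderOf_eq_one x
  have h1 : x ^ (a % v) = x ^ (b % v) := by
    rw [pow_eq_of_modEq h0 (Nat.mod_modEq a v), pow_eq_of_modEq h0 (Nat.mod_modEq b v), h]
  have h2 : IsPrimitiveRoot x v := by rw [← hx]; exact IsPrimitiveRoot.orderOf x
  exact h2.pow_inj (Nat.mod_lt a hv) (Nat.mod_lt b hv) h1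

section closed

variable {K : Type*} [Field K] {U : Type w} [AddCommGroup U] [Module K U]

theorem mul_pow_pow {A Z : Module.End K U} {j : ℕ} (h : Z * A = A ^ j * Z) (m : ℕ) : Z * A ^ m = A ^ (j * m) * Z := by
  induction m with
  | zero => simp
  | succ m ih => rw [pow_succ, ← mul_assoc, ih, mul_assoc, h, ← mul_assoc, ← pow_add]; rfl

theorem pow_mul_pow {A Z : Module.End K U} {j : ℕ} (h : Z * A = A ^ j * Z) (i : ℕ) : Z ^ i * A = A ^ (j ^ i) * Z ^ i := by
  induction i with
  | zero => simp
  | succ i ih =>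
    rw [pow_succ', mul_assoc, ih, ← mul_assoc, mul_pow_pow h, mul_assoc, ← pow_succ' j i]

theorem finrank_map_add [FiniteDimensional K U] {U' : Type*} [AddCommGroup U'] [Module K U'] (f : U →ₗ[K] U')
    (R : Submodule K U) : finrank K (R.map f) + finrank K (R ⊓ LinearMap.ker f : Submodule K U) = finrank K R := by
  have h1 := LinearMap.finrank_range_add_finrank_ker (f.domRestrict R)
  have h2 : LinearMap.range (f.domRestrict R) = R.map f := by
    rw [LinearMap.domRestrict, LinearMap.range_comp, Submodule.range_subtype]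
  have h3 : finrank K (LinearMap.ker (f.domRestrict R)) = finrank K (R ⊓ LinearMap.ker f : Submodule K U) := by
    have h4 : LinearMap.ker (f.domRestrict R) = (R ⊓ LinearMap.ker f).submoduleOf R := by
      ext x
      simp [Submodule.submoduleOf, LinearMap.mem_ker]
    rw [h4]
    exact LinearEquiv.finrank_eq (Submodule.submoduleOfEquivOfLe inf_le_left)
  rw [h2, h3] at h1
  exact h1

theorem frK [IsAlgClosed K] {u v j : ℕ} (hu : u.Prime) (hv : v.Prime) (hvK : (v : K) ≠ 0)
    (hj : ∀ i, 0 < i → i < u → ¬ j ^ i ≡ 1 [MOD v]) (hju : j ^ u ≡ 1 [MOD v]) (n : ℕ) :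
    ∀ (U : Type w) [AddCommGroup U] [Module K U] [FiniteDimensional K U] (A Z : Module.End K U),
      finrank K U = n → A ^ v = 1 → Z ^ u = 1 → Z * A = A ^ j * Z →
      u ∣ finrank K (LinearMap.range (A - 1)) ∧
        (u - 1) * finrank K (LinearMap.range (A - 1)) ≤ u * finrank K (LinearMap.range (Z - 1)) := by
  induction n using Nat.strong_induction_on with
  | _ n ih =>
    intro U _ _ _ A Z hn hA hZ hZA
    by_cases hA1 : A = 1
    · rw [hA1, sub_self, LinearMap.range_zero, finrank_bot, mul_zero]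
      exact ⟨dvd_zero _, Nat.zero_le _⟩
    set R := LinearMap.range (A - 1) with hR
    have hR1 : R ≠ ⊥ := by
      intro h
      rw [hR, LinearMap.range_eq_bot, sub_eq_zero] at h
      exact hA1 h
    -- an eigenvector
    have hnt : Nontrivial R := by
      rwa [Submodule.nontrivial_iff_ne_bot]
    let B : Module.End K R := A.restrict fun w hw => map_range hw
    obtain ⟨ζ, hζ⟩ := Module.End.exists_eigenvalue B
    obtain ⟨w, hw⟩ := hζ.exists_hasEigenvector
    have hwA : A (w : U) = ζ • (w : U) := congrArg Subtype.val hw.apply_eq_smul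
    have hw0 : (w : U) ≠ 0 := fun h => hw.2 (Subtype.ext h)
    have hAi : ∀ i : ℕ, (A ^ i) (w : U) = ζ ^ i • (w : U) := by
      intro i
      induction i with
      | zero => simp
      | succ i ih => rw [pow_succ', Module.End.mul_apply, ih, map_smul, hwA, smul_smul, pow_succ]
    have hζv : ζ ^ v = 1 := by
      have h1 := hAi v
      rw [hA, Module.End.one_apply] at h1
      by_contra h
      apply hw0
      have h2 : (ζ ^ v - 1) • (w : U) = 0 := by rw [sub_smul, ← h1, one_smul, sub_self]
      exact (smul_eq_zero.mp h2).resolve_left (sub_ne_zero.mpr h)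
    have hζ1 : ζ ≠ 1 := by
      intro h
      apply hw0
      exact eq_zero_of_fixed hA hvK w.2 (by rw [hwA, h, one_smul])
    have hord : orderOf ζ = v := by
      have := Fact.mk hv
      exact orderOf_eq_prime hζv hζ1
    -- the orbit
    let x : ℕ → U := fun i => (Z ^ i) (w : U)
    let μ : ℕ → K := fun i => ζ ^ (j ^ (u - i))
    have hAu : A ^ (j ^ u) = A := by
      have h1 : A ^ (j ^ u) = A ^ 1 := by
        exact pow_eq_of_modEq hA hju
      rw [h1, pow_one]
    have hx : ∀ i ≤ u, A (x i) = μ i • x i := by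
      intro i hi
      have h1 : (A ^ (j ^ i)) (x i) = ζ • x i := by
        show (A ^ (j ^ i)) ((Z ^ i) (w : U)) = ζ • (Z ^ i) (w : U)
        rw [← Module.End.mul_apply, ← pow_mul_pow hZA i, Module.End.mul_apply, hwA, map_smul]
      have h2 : ∀ k : ℕ, ((A ^ (j ^ i)) ^ k) (x i) = ζ ^ k • x i := by
        intro k
        induction k with
        | zero => simp
        | succ k ih => rw [pow_succ', Module.End.mul_apply, ih, map_smul, h1, smul_smul, pow_succ]
      have h3 := h2 (j ^ (u - i))
      rw [← pow_mul, ← pow_add, Nat.add_sub_cancel' hi, hAu] at h3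
      exact h3
    have hxne : ∀ i, x i ≠ 0 := by
      intro i h
      apply hw0
      have h1 : (Z ^ (u * i)) (w : U) = (w : U) := by rw [pow_mul, hZ, one_pow, Module.End.one_apply]
      have h2 : i ≤ u * i := Nat.le_mul_of_pos_left i hu.pos
      rw [← h1, show u * i = (u * i - i) + i by omega, pow_add, Module.End.mul_apply]
      have h3 : (Z ^ i) (w : U) = 0 := h
      rw [h3, map_zero]
    have hμ1 : ∀ i ≤ u, μ i ≠ 1 := by
      intro i hi h
      have h1 : (v : ℕ) ∣ j ^ (u - i) := by rw [← hord]; exact orderOf_dvd_of_pow_eq_one h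
      have h2 : v ∣ j ^ u := h1.trans (pow_dvd_pow j (Nat.sub_le u i))
      have h3 : j ^ u ≡ 0 [MOD v] := Nat.modEq_zero_iff_dvd.mpr h2
      have h4 := (Nat.modEq_zero_iff_dvd.mp (hju.symm.trans h3))
      exact hv.one_lt.ne' (Nat.dvd_one.mp h4)
    have hcop : Nat.Coprime v j := by
      rw [hv.coprime_iff_not_dvd]
      intro h
      have h3 : j ^ u ≡ 0 [MOD v] := Nat.modEq_zero_iff_dvd.mpr (dvd_pow h hu.ne_zero)
      have h4 := (Nat.modEq_zero_iff_dvd.mp (hju.symm.trans h3))
      exact hv.one_lt.ne' (Nat.dvd_one.mp h4)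
    have key : ∀ a b : ℕ, a < b → b < u → μ a ≠ μ b := by
      intro a b hab hb h
      have h1 : j ^ (u - a) ≡ j ^ (u - b) [MOD v] := by
        exact modEq_of_pow_eq hv.pos hord h
      have h2 : u - a = (b - a) + (u - b) := by omega
      have h3 : j ^ (b - a) * j ^ (u - b) ≡ 1 * j ^ (u - b) [MOD v] := by rw [← pow_add, ← h2, one_mul]; exact h1
      exact hj (b - a) (by omega) (by omega)
        (Nat.ModEq.cancel_right_of_coprime (by rw [Nat.coprime_iff_gcd_eq_one.symm]; exact Nat.Coprime.pow_right _ hcop) h3)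
    have hli : LinearIndependent K (fun i : Fin u => x i) := by
      refine Module.End.eigenvectors_linearIndependent' A (fun i : Fin u => μ i) ?_ _ (fun i => ?_)
      · intro a b hab
        apply Fin.ext
        rcases lt_trichotomy (a : ℕ) b with h | h | h
        · exact absurd hab (key a b h b.2)
        · exact h
        · exact absurd hab.symm (key b a h a.2)
      · rw [Module.End.hasEigenvector_iff, Module.End.mem_eigenspace_iff]
        exact ⟨hx i i.2.le, hxne i⟩
    set U₁ : Submodule K U := Submodule.span K (Set.range fun i : Fin u => x i) with hU₁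
    have hU₁u : finrank K U₁ = u := by
      rw [hU₁, finrank_span_eq_card hli, Fintype.card_fin]
    have hxU : ∀ i, x i ∈ U₁ := by
      intro i
      have h1 : x i = x (i % u) := by
        show (Z ^ i) (w : U) = (Z ^ (i % u)) (w : U)
        conv_lhs => rw [← Nat.mod_add_div i u]
        rw [pow_add, pow_mul, hZ, one_pow, mul_one]
      rw [h1]
      exact Submodule.subset_span ⟨⟨i % u, Nat.mod_lt i hu.pos⟩, rfl⟩
    have hAU : U₁ ≤ U₁.comap A := by
      rw [hU₁, Submodule.span_le]
      rintro _ ⟨i, rfl⟩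
      show A (x i) ∈ U₁
      rw [hx i i.2.le]
      exact Submodule.smul_mem _ _ (hxU i)
    have hZU : U₁ ≤ U₁.comap Z := by
      rw [hU₁, Submodule.span_le]
      rintro _ ⟨i, rfl⟩
      show Z (x i) ∈ U₁
      have h1 : Z (x i) = x (i + 1) := by
        show Z ((Z ^ (i : ℕ)) (w : U)) = (Z ^ ((i : ℕ) + 1)) (w : U)
        rw [pow_succ', Module.End.mul_apply]
      rw [h1]
      exact hxU _
    let A' : Module.End K (U ⧸ U₁) := U₁.mapQ U₁ A hAU
    let Z' : Module.End K (U ⧸ U₁) := U₁.mapQ U₁ Z hZU
    have hA' : ∀ y, A' (Submodule.Quotient.mk y) = Submodule.Quotient.mk (A y) := fun y => rfl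
    have hZ' : ∀ y, Z' (Submodule.Quotient.mk y) = Submodule.Quotient.mk (Z y) := fun y => rfl
    have hA'i : ∀ (i : ℕ) y, (A' ^ i) (Submodule.Quotient.mk y) = Submodule.Quotient.mk ((A ^ i) y) := by
      intro i y
      induction i with
      | zero => simp
      | succ i ih => rw [pow_succ', Module.End.mul_apply, ih, hA', pow_succ', Module.End.mul_apply]
    have hZ'i : ∀ (i : ℕ) y, (Z' ^ i) (Submodule.Quotient.mk y) = Submodule.Quotient.mk ((Z ^ i) y) := by
      intro i y
      induction i with
      | zero => simp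
      | succ i ih => rw [pow_succ', Module.End.mul_apply, ih, hZ', pow_succ', Module.End.mul_apply]
    have hlt : finrank K (U ⧸ U₁) < n := by
      have h1 := Submodule.finrank_quotient_add_finrank U₁
      have h2 := hu.pos
      omega
    have hih := ih _ hlt (U ⧸ U₁) A' Z' rfl
      (by
        apply LinearMap.ext
        intro y
        obtain ⟨y, rfl⟩ := Submodule.Quotient.mk_surjective _ y
        rw [hA'i, hA]; rfl)
      (by
        apply LinearMap.ext
        intro y
        obtain ⟨y, rfl⟩ := Submodule.Quotient.mk_surjective _ y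
        rw [hZ'i, hZ]; rfl)
      (by
        apply LinearMap.ext
        intro y
        obtain ⟨y, rfl⟩ := Submodule.Quotient.mk_surjective _ y
        rw [Module.End.mul_apply, Module.End.mul_apply, hA', hZ', hZ', hA'i, ← Module.End.mul_apply, hZA,
          Module.End.mul_apply])
    have hrA : LinearMap.range (A' - 1) = R.map U₁.mkQ := by
      ext y
      constructor
      · rintro ⟨z, rfl⟩
        obtain ⟨z, rfl⟩ := Submodule.Quotient.mk_surjective _ z
        exact ⟨A z - z, ⟨z, rfl⟩, rfl⟩
      · rintro ⟨_, ⟨z, rfl⟩, rfl⟩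
        exact ⟨Submodule.Quotient.mk z, rfl⟩
    have hrZ : LinearMap.range (Z' - 1) = (LinearMap.range (Z - 1)).map U₁.mkQ := by
      ext y
      constructor
      · rintro ⟨z, rfl⟩
        obtain ⟨z, rfl⟩ := Submodule.Quotient.mk_surjective _ z
        exact ⟨Z z - z, ⟨z, rfl⟩, rfl⟩
      · rintro ⟨_, ⟨z, rfl⟩, rfl⟩
        exact ⟨Submodule.Quotient.mk z, rfl⟩
    rw [hrA, hrZ] at hih
    have h1 := finrank_map_add U₁.mkQ R
    have h2 := finrank_map_add U₁.mkQ (LinearMap.range (Z - 1))
    rw [Submodule.ker_mkQ] at h1 h2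
    have h3 : R ⊓ U₁ = U₁ := by
      rw [inf_eq_right, hU₁, Submodule.span_le]
      rintro _ ⟨i, rfl⟩
      have h4 : A (x i) - x i = (μ i - 1) • x i := by rw [hx i i.2.le, sub_smul, one_smul]
      have h5 : x i = (μ i - 1)⁻¹ • (A (x i) - x i) := by
        rw [h4, smul_smul, inv_mul_cancel₀ (sub_ne_zero.mpr (hμ1 i i.2.le)), one_smul]
      show x i ∈ R
      rw [h5]
      exact Submodule.smul_mem _ _ ⟨x i, rfl⟩
    rw [h3, hU₁u] at h1
    have h4 : u ≤ finrank K (LinearMap.range (Z - 1) ⊓ U₁ : Submodule K U) + 1 := by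
      have h5 : U₁ ≤ (LinearMap.range (Z - 1) ⊓ U₁) ⊔ Submodule.span K {(w : U)} := by
        rw [hU₁, Submodule.span_le, ← hU₁]
        rintro _ ⟨i, rfl⟩
        have h6 : ∀ k : ℕ, x k - (w : U) ∈ LinearMap.range (Z - 1) := by
          intro k
          induction k with
          | zero => show (Z ^ 0) (w : U) - w ∈ _; simp
          | succ k ihk =>
            have h7 : x (k + 1) - (w : U) = (Z (x k) - x k) + (x k - w) := by
              show (Z ^ (k + 1)) (w : U) - w = (Z ((Z ^ k) (w : U)) - (Z ^ k) (w : U)) + ((Z ^ k) (w : U) - w)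
              rw [pow_succ', Module.End.mul_apply]; abel
            rw [h7]
            exact Submodule.add_mem _ ⟨x k, rfl⟩ ihk
        have h7 : x i = (x i - w) + (w : U) := by abel
        show x i ∈ _
        rw [h7]
        exact Submodule.add_mem_sup ⟨h6 i, U₁.sub_mem (hxU i) (by simpa [x] using hxU 0)⟩
          (Submodule.mem_span_singleton_self _)
      have h6 := (Submodule.finrank_mono h5).trans (Submodule.finrank_add_le_finrank_add_finrank _ _)
      have h7 : finrank K (Submodule.span K {(w : U)}) ≤ 1 := by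
        rw [finrank_span_singleton hw0]
      omega
    have hu1 : u - 1 ≤ finrank K (LinearMap.range (Z - 1) ⊓ U₁ : Submodule K U) := by omega
    have h5 : (u - 1) * finrank K R = (u - 1) * finrank K (R.map U₁.mkQ) + (u - 1) * u := by
      rw [← h1]; ring
    have h6 : u * finrank K (LinearMap.range (Z - 1)) =
        u * finrank K ((LinearMap.range (Z - 1)).map U₁.mkQ) +
          u * finrank K (LinearMap.range (Z - 1) ⊓ U₁ : Submodule K U) := by
      rw [← h2]; ring
    refine ⟨?_, ?_⟩
    · rw [← h1]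
      exact dvd_add hih.1 (dvd_refl u)
    rw [h5, h6]
    refine add_le_add hih.2 ?_
    rw [mul_comm (u - 1) u]
    exact Nat.mul_le_mul_left u hu1

end closed

section general

variable {F : Type*} [Field F] {V : Type*} [AddCommGroup V] [Module F V] [FiniteDimensional F V] {Y : Type*} [Group Y]
  [Finite Y]

/-- **the Frobenius count** -/
theorem fr (ρ : Representation F Y V) {u v j : ℕ} (hu : u.Prime) (hv : v.Prime) (hvF : (v : F) ≠ 0) {a z : Y}
    (ha : a ^ v = 1) (hz : z ^ u = 1) (hj : z * a * z⁻¹ = a ^ j) (hne : z * a ≠ a * z) :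
    u ∣ rk ρ a ∧ (u - 1) * rk ρ a ≤ u * rk ρ z := by
  have ha1 : a ≠ 1 := by rintro rfl; exact hne (by simp)
  have hord : orderOf a = v := by
    have := Fact.mk hv
    exact orderOf_eq_prime ha ha1
  have hconj : ∀ i : ℕ, z ^ i * a * (z ^ i)⁻¹ = a ^ (j ^ i) := by
    intro i
    induction i with
    | zero => simp
    | succ i ih =>
      have h2 : z ^ (i + 1) * a * (z ^ (i + 1))⁻¹ = z * (z ^ i * a * (z ^ i)⁻¹) * z⁻¹ := by
        rw [pow_succ']; group
      rw [h2, ih, ← conj_pow, hj, ← pow_mul, pow_succ']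
  have hju : j ^ u ≡ 1 [MOD v] := by
    have h1 := hconj u
    rw [hz, one_mul, inv_one, mul_one] at h1
    have h2 : a ^ (j ^ u) = a ^ 1 := by rw [← h1, pow_one]
    rw [← hord]
    exact pow_eq_pow_iff_modEq.mp h2
  have hj1 : ¬ j ≡ 1 [MOD v] := by
    intro h
    apply hne
    have h1 : a ^ j = a ^ 1 := by
      rw [pow_eq_pow_iff_modEq, hord]; exact h
    rw [h1, pow_one] at hj
    exact mul_inv_eq_iff_eq_mul.mp hj
  have hji : ∀ i, 0 < i → i < u → ¬ j ^ i ≡ 1 [MOD v] := by
    intro i hi0 hiu h
    apply hj1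
    have h1 : ((j : ZMod v)) ^ i = 1 := by
      have := (ZMod.natCast_eq_natCast_iff _ _ _).mpr h
      push_cast at this
      exact this
    have h2 : ((j : ZMod v)) ^ u = 1 := by
      have := (ZMod.natCast_eq_natCast_iff _ _ _).mpr hju
      push_cast at this
      exact this
    have h3 : orderOf (j : ZMod v) ∣ 1 := by
      have h4 : Nat.Coprime i u := (Nat.coprime_of_lt_prime hi0.ne' hiu hu).symm
      rw [← h4]
      exact Nat.dvd_gcd (orderOf_dvd_of_pow_eq_one h1) (orderOf_dvd_of_pow_eq_one h2)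
    have h4 : (j : ZMod v) = 1 := orderOf_eq_one_iff.mp (Nat.dvd_one.mp h3)
    have h5 : (j : ZMod v) = ((1 : ℕ) : ZMod v) := by push_cast; exact h4
    exact (ZMod.natCast_eq_natCast_iff _ _ _).mp h5
  let K := AlgebraicClosure F
  have hvK : (v : K) ≠ 0 := by
    rw [← map_natCast (algebraMap F K)]
    exact (map_ne_zero_iff _ (algebraMap F K).injective).mpr hvF
  have hrel : bc K ρ z * bc K ρ a = bc K ρ a ^ j * bc K ρ z := by
    rw [← map_mul, ← map_pow, ← map_mul, ← hj]
    congr 1
    group
  have h1 := frK hu hv hvK hji hju _ _ (bc K ρ a) (bc K ρ z) rfl (by rw [← map_pow, ha, map_one])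
    (by rw [← map_pow, hz, map_one]) hrel
  rw [finrank_range_bc, finrank_range_bc] at h1
  exact h1

end general

end Cfsg.Agent.H553.RV
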