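import Cfsg.Agent.H553.RV.LinH

/-!
# TEAM RV, R2 linear/unitary: further facts for S3849 (helper553)
-/

set_option autoImplicit false
set_option linter.unusedSectionVars false

namespace Cfsg.Agent.H553.RV

open Module Cfsg Cfsg.Agent.H167.OP Cfsg.Agent.H170.HL Cfsg.Agent.H556.HallRowAbs Cfsg.Agent.H556.HallLB
  Cfsg.Agent.H556.HallSmallCen

variable {F : Type*} [Field F] {V : Type*} [AddCommGroup V] [Module F V] {Y : Type*} [Group Y]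
  {ρ : Representation F Y V} [FiniteDimensional F V] [Finite Y] {e : ℕ → ℕ} {X H : Subgroup Y}

/-- the elements of `Z_s(H)` and `Z_t(H)` commute (`s, t ≠ r`) -/
theorem Cx.comm_st (C : Cx ρ e X H) {r s t : ℕ} (hr : r.Prime) (hrH : r ∣ Nat.card H)
    (hmin : ∀ t : ℕ, t.Prime → t ∣ Nat.card H → r ≤ t) (hs : s.Prime) (hsH : s ∣ Nat.card H) (hsr : s ≠ r)
    (ht : t.Prime) (htH : t ∣ Nat.card H) (htr : t ≠ r) {x y : Y} (hxH : x ∈ H) (hx : ∃ k : ℕ, x ^ s ^ k = 1)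
    (hyH : y ∈ H) (hy : ∃ k : ℕ, y ^ t ^ k = 1) : x * y = y * x :=
  C.gens_comm hr hrH hmin x ⟨hxH, s, hs, hsH, hsr, hx⟩ y ⟨hyH, t, ht, htH, htr, hy⟩

/-- `e s = e t` for `s, t ≠ r` -/
theorem Cx.e_eq (C : Cx ρ e X H) {r s t : ℕ} (hr : r.Prime) (hrH : r ∣ Nat.card H)
    (hmin : ∀ t : ℕ, t.Prime → t ∣ Nat.card H → r ≤ t) (hs : s.Prime) (hsH : s ∣ Nat.card H) (hsr : s ≠ r)
    (ht : t.Prime) (htH : t ∣ Nat.card H) (htr : t ≠ r) : e s = e t := by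
  obtain ⟨m, f, hf⟩ := C.frame hs hsH
  obtain ⟨m', f', hf'⟩ := C.frame ht htH
  have hm := C.pos hs hsH hf
  have hm' := C.pos ht htH hf'
  have hc : ∀ i j, f i * f' j = f' j * f i := fun i j =>
    C.comm_st hr hrH hmin hs hsH hsr ht htH htr (hf.mem i) ⟨1, by rw [pow_one]; exact (hf.isZ i).1⟩
      (hf'.mem j) ⟨1, by rw [pow_one]; exact (hf'.isZ j).1⟩
  refine le_antisymm ?_ ?_
  · exact e_le_of_comm C.D (C.ne ht htH) hs (C.odd hs hsH) (C.ne hs hsH) hf' (hf.isZ ⟨0, hm⟩) fun i => (hc _ i).symm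
  · exact e_le_of_comm C.D (C.ne hs hsH) ht (C.odd ht htH) (C.ne ht htH) hf (hf'.isZ ⟨0, hm'⟩) fun i => hc i _

/-- the supports of the frames for `s` and `t` agree (`s, t ≠ r`) -/
theorem Cx.atom_st (C : Cx ρ e X H) {r s t : ℕ} (hr : r.Prime) (hrH : r ∣ Nat.card H)
    (hmin : ∀ t : ℕ, t.Prime → t ∣ Nat.card H → r ≤ t) (hs : s.Prime) (hsH : s ∣ Nat.card H) (hsr : s ≠ r)
    (ht : t.Prime) (htH : t ∣ Nat.card H) (htr : t ≠ r) {m : ℕ} {f : Fin m → Y} (hf : Fm ρ e H s m f)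
    {a : Y} (haH : a ∈ H) (ha : IsZ ρ e t a) : ∃ i, Rg ρ a = Rg ρ (f i) :=
  C.same_atom hs hsH ht htH (C.e_eq hr hrH hmin hs hsH hsr ht htH htr) hf ha fun i =>
    C.comm_st hr hrH hmin hs hsH hsr ht htH htr (hf.mem i) ⟨1, by rw [pow_one]; exact (hf.isZ i).1⟩
      haH ⟨1, by rw [pow_one]; exact ha.1⟩

/-- the dichotomy: small `r`-elements centralise all small `t`-elements, or `e t = r`, `e r = r - 1` -/
theorem Cx.comm_or (C : Cx ρ e X H) {r t : ℕ} (hr : r.Prime) (hrH : r ∣ Nat.card H) (ht : t.Prime)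
    (htH : t ∣ Nat.card H) (hrt : r < t) :
    (∀ z ∈ H, IsZ ρ e r z → ∀ a ∈ H, IsZ ρ e t a → z * a = a * z) ∨ (e t = r ∧ e r = r - 1) := by
  by_contra hcon
  push Not at hcon
  obtain ⟨⟨z, hz, hzZ, a, ha, haZ, hne⟩, h2⟩ := hcon
  obtain ⟨m', f', hf'⟩ := C.frame ht htH
  rcases pair C.D C.hH hr (C.odd hr hrH) (C.ne hr hrH) ht (C.odd ht htH) (C.ne ht htH) hrt.ne
    (C.gen hr hrH ht htH hrt) (C.dm r t hr ht hrH htH) hf' haZ ha hzZ hz with h | h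
  · exact hne h
  · exact h2 h.1 h.2

end Cfsg.Agent.H553.RV
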